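import Cfsg.Agent.M22.BDataOfBlocks
import Cfsg.Agent.CharDeep.PowerDegrees
import Cfsg.Agent.Blocks.Knorr
import Cfsg.Agent.SmallSimple.TheoremBCor
set_option linter.all false

-- part: M22/DegreesEnd
section
/-!
# Degrees of the irreducible characters of a simple group of order 443520: the four candidates
-/

set_option autoImplicit false

namespace Cfsg.Agent.M22.DegreesEnd

open Cfsg.Agent.M22.DegreesComb

/-- Candidate A for the degrees. -/
def LA : List ℕ := [1, 21, 21, 56, 99, 105, 105, 120, 220, 220, 385, 385]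
/-- Candidate B for the degrees, the true one. -/
def LB : List ℕ := [1, 21, 45, 45, 55, 99, 154, 210, 231, 280, 280, 385]
/-- Candidate C for the degrees. -/
def LC : List ℕ := [1, 21, 55, 66, 66, 120, 154, 210, 210, 280, 280, 385]
/-- Candidate D for the degrees. -/
def LD : List ℕ := [1, 21, 99, 120, 154, 210, 210, 220, 220, 231, 280, 280]

/-- Sum of squares. -/
def sq (l : List ℕ) : ℕ := (l.map fun a => a * a).sum

/-- The check of a compatible triple. -/
def chkM (m : List ℕ) : Bool :=
  (fun s => !(Nat.ble s 443520) || !(Nat.beq ((443520 - s) % 148225) 0) ||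
    (fun r => [LA, LB, LC, LD].any fun L => L.isPerm (m ++ r))
      (List.replicate ((443520 - s) / 148225) 385)) (sq m)

/-- The check of all triples. -/
def chkFinal : Bool :=
  L11.all fun a => L7.all fun b =>
    !((a.filter fun d => !(Nat.beq (d % 7) 0)).isPerm (b.filter fun d => !(Nat.beq (d % 11) 0))) ||
    L5.all fun c =>
      !((a.filter fun d => !(Nat.beq (d % 5) 0)).isPerm (c.filter fun d => !(Nat.beq (d % 11) 0))) ||
      !((b.filter fun d => !(Nat.beq (d % 5) 0)).isPerm (c.filter fun d => !(Nat.beq (d % 7) 0))) ||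
      chkM (a ++ (b.filter fun d => Nat.beq (d % 11) 0) ++ (c.filter fun d => Nat.beq (d % 77) 0))

theorem chkFinal_true : chkFinal = true := by decide +kernel

variable {ι : Type*} [Fintype ι] {deg : ι → ℕ} {i0 : ι}

theorem filt_eq (q : ℕ) (l : List ℕ) :
    ((l.filter fun d => !(Nat.beq (d % q) 0) : List ℕ) : Multiset ℕ) =
      (l : Multiset ℕ).filter fun d => ¬ q ∣ d := by
  rw [Multiset.filter_coe, Multiset.coe_eq_coe]
  apply List.Perm.of_eq
  apply List.filter_congr
  intro d _
  rw [Bool.eq_iff_iff, Bool.not_eq_true', decide_eq_true_iff, Nat.dvd_iff_mod_eq_zero]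
  constructor
  · intro h h'
    rw [h'] at h
    exact absurd h (by decide)
  · intro h
    rw [Bool.eq_false_iff]
    intro h'
    exact h (Nat.eq_of_beq_eq_true h')

theorem filt_eq' (q : ℕ) (l : List ℕ) :
    ((l.filter fun d => Nat.beq (d % q) 0 : List ℕ) : Multiset ℕ) =
      (l : Multiset ℕ).filter fun d => q ∣ d := by
  rw [Multiset.filter_coe, Multiset.coe_eq_coe]
  apply List.Perm.of_eq
  apply List.filter_congr
  intro d _
  rw [Bool.eq_iff_iff, decide_eq_true_iff, Nat.dvd_iff_mod_eq_zero]
  exact ⟨Nat.eq_of_beq_eq_true, fun h => by rw [h]; rfl⟩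

theorem degrees [DecidableEq ι] (h0 : deg i0 = 1) (h1 : ∀ i, deg i = 1 → i = i0)
    (hdvd : ∀ i, deg i ∣ 443520) (hsq : ∑ i, deg i ^ 2 = 443520) (b11 : BData deg i0 11 5 2)
    (b7 : BData deg i0 7 3 2) (b5 : BData deg i0 5 4 1) :
    ∃ L ∈ [LA, LB, LC, LD], (Finset.univ.val.map deg : Multiset ℕ) = L := by
  obtain ⟨a, ha, hae⟩ := block_list h0 h1 hdvd hsq 11 5 2 C11 E11 L11 (by decide) (by decide)
    (by decide +kernel) (by decide +kernel) (by norm_num) chk11 b11
  obtain ⟨b, hb, hbe⟩ := block_list h0 h1 hdvd hsq 7 3 2 C7 E7 L7 (by decide) (by decide)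
    (by decide +kernel) (by decide +kernel) (by norm_num) chk7 b7
  obtain ⟨c, hc, hce⟩ := block_list h0 h1 hdvd hsq 5 4 1 C5 E5 L5 (by decide) (by decide)
    (by decide +kernel) (by decide +kernel) (by norm_num) chk5 b5
  set M : Multiset ℕ := Finset.univ.val.map deg with hM
  have hall := List.all_eq_true.1 (List.all_eq_true.1 chkFinal_true a ha) b hb
  rw [Bool.or_eq_true, Bool.not_eq_true'] at hall
  have hab : ((a.filter fun d => !(Nat.beq (d % 7) 0)).isPerm
      (b.filter fun d => !(Nat.beq (d % 11) 0))) = true := by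
    rw [List.isPerm_iff, ← Multiset.coe_eq_coe, filt_eq 7, filt_eq 11,
      hae, hbe, Multiset.filter_comm]
  rcases hall with hall | hall
  · rw [hab] at hall; exact absurd hall (by decide)
  have hall := List.all_eq_true.1 hall c hc
  rw [Bool.or_eq_true, Bool.or_eq_true, Bool.not_eq_true', Bool.not_eq_true'] at hall
  have hac : ((a.filter fun d => !(Nat.beq (d % 5) 0)).isPerm
      (c.filter fun d => !(Nat.beq (d % 11) 0))) = true := by
    rw [List.isPerm_iff, ← Multiset.coe_eq_coe, filt_eq 5, filt_eq 11,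
      hae, hce, Multiset.filter_comm]
  have hbc : ((b.filter fun d => !(Nat.beq (d % 5) 0)).isPerm
      (c.filter fun d => !(Nat.beq (d % 7) 0))) = true := by
    rw [List.isPerm_iff, ← Multiset.coe_eq_coe, filt_eq 5, filt_eq 7,
      hbe, hce, Multiset.filter_comm]
  rw [hac, hbc] at hall
  rcases hall with (hall | hall) | hall
  · exact absurd hall (by decide)
  · exact absurd hall (by decide)
  -- the decomposition of the multiset of degrees
  set m : List ℕ := a ++ (b.filter fun d => Nat.beq (d % 11) 0) ++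
    (c.filter fun d => Nat.beq (d % 77) 0) with hm
  have hdec : M = (m : Multiset ℕ) + M.filter fun d => 385 ∣ d := by
    rw [hm, ← Multiset.coe_add, ← Multiset.coe_add, filt_eq', filt_eq', hae, hbe, hce,
      Multiset.filter_filter, Multiset.filter_filter]
    have e1 : M = M.filter (fun d => ¬ 11 ∣ d) + M.filter (fun d => 11 ∣ d) := by
      rw [add_comm]
      exact (Multiset.filter_add_not (fun d => 11 ∣ d) M).symm
    have e2 : M.filter (fun d => 11 ∣ d) = M.filter (fun d => 11 ∣ d ∧ ¬ 7 ∣ d) +
        M.filter (fun d => 77 ∣ d) := by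
      conv_lhs => rw [← Multiset.filter_add_not (fun d => 7 ∣ d) (M.filter (fun d => 11 ∣ d))]
      rw [Multiset.filter_filter, Multiset.filter_filter, add_comm]
      congr 1
      · exact Multiset.filter_congr fun d _ => by tauto
      · exact Multiset.filter_congr fun d _ => by omega
    have e3 : M.filter (fun d => 77 ∣ d) = M.filter (fun d => 77 ∣ d ∧ ¬ 5 ∣ d) +
        M.filter (fun d => 385 ∣ d) := by
      conv_lhs => rw [← Multiset.filter_add_not (fun d => 5 ∣ d) (M.filter (fun d => 77 ∣ d))]
      rw [Multiset.filter_filter, Multiset.filter_filter, add_comm]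
      congr 1
      · exact Multiset.filter_congr fun d _ => by tauto
      · exact Multiset.filter_congr fun d _ => by omega
    rw [add_assoc, add_assoc, ← e3, ← e2]
    exact e1
  have hrep : M.filter (fun d => 385 ∣ d) =
      Multiset.replicate (Multiset.card (M.filter fun d => 385 ∣ d)) 385 := by
    rw [Multiset.eq_replicate]
    refine ⟨rfl, fun d hd => ?_⟩
    rw [Multiset.mem_filter] at hd
    obtain ⟨i, -, rfl⟩ := Multiset.mem_map.1 hd.1
    have hlt := deg_lt hsq i
    obtain ⟨k, hk⟩ := hd.2
    have hpos : 0 < deg i := Nat.pos_of_dvd_of_pos (hdvd i) (by norm_num)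
    have : k = 1 := by omega
    rw [hk, this]
  set k := Multiset.card (M.filter fun d => 385 ∣ d) with hk
  have hsum : sq m + k * 148225 = 443520 := by
    have h2 : (M.map fun d => d * d).sum = 443520 := by
      rw [hM, Multiset.map_map, ← hsq, Finset.sum_eq_multiset_sum]
      congr 1
      exact Multiset.map_congr rfl fun i _ => (pow_two _).symm
    rw [hdec, hrep, Multiset.map_add, Multiset.sum_add, Multiset.map_replicate,
      Multiset.sum_replicate, Multiset.map_coe, Multiset.sum_coe] at h2
    exact h2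
  have hsle : Nat.ble (sq m) 443520 = true := Nat.ble_eq.mpr (by omega)
  have hmod : Nat.beq ((443520 - sq m) % 148225) 0 = true := by
    rw [show 443520 - sq m = k * 148225 by omega, Nat.mul_mod_left]
    rfl
  have hdiv : (443520 - sq m) / 148225 = k := by
    rw [show 443520 - sq m = k * 148225 by omega]
    exact Nat.mul_div_cancel _ (by norm_num)
  unfold chkM at hall
  simp only [hsle, hmod, hdiv, Bool.not_true, Bool.false_or] at hall
  obtain ⟨L, hL, hperm⟩ := List.any_eq_true.1 hall
  refine ⟨L, hL, ?_⟩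
  rw [hdec, hrep, ← Multiset.coe_replicate, Multiset.coe_add]
  exact (Multiset.coe_eq_coe.2 (List.isPerm_iff.1 hperm)).symm

end Cfsg.Agent.M22.DegreesEnd
end

-- part: M22/Degrees
section
/-!
# Degrees of the irreducible characters of a simple group of order 443520
-/

set_option autoImplicit false

namespace Cfsg.Agent.M22.Degrees

open Cfsg Cfsg.Agent.Characters.Core Cfsg.Agent.M22.DegreesComb Cfsg.Agent.M22.DegreesEnd
open Cfsg.Agent.Blocks.Basic (irr_one_eq_charDegree)

universe u

/-- A multiset whose image under `deg` is a list can be listed accordingly. -/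
theorem exists_list_of_map_eq {ι : Type*} [DecidableEq ι] (deg : ι → ℕ) (L : List ℕ) :
    ∀ s : Multiset ι, s.map deg = (L : Multiset ℕ) →
      ∃ l : List ι, (l : Multiset ι) = s ∧ l.map deg = L := by
  induction L with
  | nil =>
    intro s hs
    rw [Multiset.coe_nil, Multiset.map_eq_zero] at hs
    exact ⟨[], hs.symm, rfl⟩
  | cons a L ih =>
    intro s hs
    rw [← Multiset.cons_coe, ← Multiset.map_eq_cons] at hs
    obtain ⟨x, hx, rfl, hL⟩ := hs
    obtain ⟨l, hl, hlL⟩ := ih _ hL
    refine ⟨x :: l, ?_, by rw [List.map_cons, hlL]⟩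
    rw [← Multiset.cons_coe, hl, Multiset.cons_erase hx]

/-- An enumeration of a finite type with prescribed values. -/
theorem exists_equiv_of_map_eq {ι : Type*} [Fintype ι] (deg : ι → ℕ) (L : List ℕ)
    (h : (Finset.univ.val.map deg : Multiset ℕ) = L) :
    ∃ f : Fin L.length ≃ ι, ∀ i, deg (f i) = L.get i := by
  classical
  obtain ⟨l, hl, hlL⟩ := exists_list_of_map_eq deg L _ h
  have hnd : l.Nodup := by
    rw [← Multiset.coe_nodup, hl]
    exact Finset.univ.nodup
  have hall : ∀ x, x ∈ l := by
    intro x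
    rw [← Multiset.mem_coe, hl]
    exact Finset.mem_univ x
  subst hlL
  refine ⟨(finCongr (List.length_map _)).trans (hnd.getEquivOfForallMemList l hall), fun i => ?_⟩
  simp

/-- A homomorphism from a finite simple group of composite order to a commutative group is
trivial. -/
theorem hom_eq_one {G : Type*} [Group G] [Finite G] [IsSimpleGroup G] (hG : ¬ (Nat.card G).Prime)
    {A : Type*} [CommGroup A] (f : G →* A) : f = 1 := by
  rcases IsSimpleGroup.eq_bot_or_eq_top_of_normal f.ker inferInstance with h | h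
  · exfalso
    have hinj : Function.Injective f := (MonoidHom.ker_eq_bot_iff f).1 h
    have hcomm : ∀ a b : G, a * b = b * a := by
      intro a b
      apply hinj
      rw [map_mul, map_mul, mul_comm]
    let inst : CommGroup G := { (inferInstance : Group G) with mul_comm := hcomm }
    have : @IsSimpleGroup G inst.toGroup := by assumption
    exact hG (@IsSimpleGroup.prime_card G inst this)
  · exact MonoidHom.ext fun x => by
      have : x ∈ f.ker := h ▸ Subgroup.mem_top x
      exact this

variable {G : Type u} [Group G] [Finite G]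

theorem eq_one_of_charDegree [IsSimpleGroup G] (hG : ¬ (Nat.card G).Prime) (χ : IrrCharacter G)
    (h : charDegree (χ : G → ℂ) = 1) : χ = ⟨1, isIrr_one⟩ := by
  have h1 : (χ : G → ℂ) 1 = 1 := by rw [irr_one_eq_charDegree χ.2, h, Nat.cast_one]
  obtain ⟨f, hf⟩ := Cfsg.Agent.Characters.Linear.exists_hom_of_isIrrCharacter χ.2 h1
  apply Subtype.ext
  funext g
  have h2 := hom_eq_one hG f
  rw [hf]
  simp [h2]

/-- The degrees of the irreducible characters of a simple group of order 443520, given Brauer's
theorem at the primes 11, 7 and 5. -/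
theorem exists_enum [IsSimpleGroup G] (hcard : Nat.card G = 443520)
    (b11 : BData (fun χ : IrrCharacter G => charDegree (χ : G → ℂ)) ⟨1, isIrr_one⟩ 11 5 2)
    (b7 : BData (fun χ : IrrCharacter G => charDegree (χ : G → ℂ)) ⟨1, isIrr_one⟩ 7 3 2)
    (b5 : BData (fun χ : IrrCharacter G => charDegree (χ : G → ℂ)) ⟨1, isIrr_one⟩ 5 4 1) :
    ∃ L ∈ [LA, LB, LC, LD], ∃ f : Fin 12 ≃ IrrCharacter G,
      ∀ i : Fin 12, charDegree (f i : G → ℂ) = L.getD i 0 := by
  classical
  have hfin : Finite (IrrCharacter G) := finite_irr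
  have := Fintype.ofFinite (IrrCharacter G)
  have hG : ¬ (Nat.card G).Prime := by rw [hcard]; norm_num
  have hsq : ∑ χ : IrrCharacter G, charDegree (χ : G → ℂ) ^ 2 = 443520 := by
    have h := Cfsg.Agent.CharDeep.PowerDegrees.sum_sq (G := G)
    rw [hcard] at h
    have h2 : ∑ χ : IrrCharacter G, (χ : G → ℂ) 1 ^ 2 =
        ((∑ χ : IrrCharacter G, charDegree (χ : G → ℂ) ^ 2 : ℕ) : ℂ) := by
      push_cast
      refine Finset.sum_congr rfl fun χ _ => ?_
      rw [irr_one_eq_charDegree χ.2]
    rw [h2] at h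
    exact_mod_cast h
  have h0 : charDegree (((⟨1, isIrr_one⟩ : IrrCharacter G)) : G → ℂ) = 1 := by
    apply Cfsg.Agent.Blocks.Basic.charDegree_of_eq
    simp
  obtain ⟨L, hL, hM⟩ := degrees (ι := IrrCharacter G)
    (deg := fun χ : IrrCharacter G => charDegree (χ : G → ℂ)) (i0 := ⟨1, isIrr_one⟩) h0
    (fun χ h => eq_one_of_charDegree hG χ h)
    (fun χ => hcard ▸ Cfsg.Agent.Blocks.Knorr.charDegree_dvd χ.2) hsq b11 b7 b5
  obtain ⟨f, hf⟩ := exists_equiv_of_map_eq _ L hM
  have hlen : L.length = 12 := by
    simp only [List.mem_cons, List.not_mem_nil, or_false] at hL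
    rcases hL with rfl | rfl | rfl | rfl <;> rfl
  refine ⟨L, hL, (finCongr hlen.symm).trans f, fun i => ?_⟩
  rw [Equiv.trans_apply, hf]
  rw [List.getD_eq_getElem _ _ (by rw [hlen]; exact i.2)]
  rfl

/-- The degree data of a self-centralising Sylow subgroup of prime order. -/
theorem bdata_sylow (p : ℕ) [Fact p.Prime] (hp2 : p ≠ 2) (P : Sylow p G) (hP : Nat.card P = p)
    (hC : Subgroup.centralizer (P : Set G) = (P : Subgroup G)) (e t : ℕ)
    (he : (Subgroup.centralizer (P : Set G)).relIndex (Subgroup.normalizer (P : Set G)) = e)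
    (ht : e * t = p - 1) :
    BData (fun χ : IrrCharacter G => charDegree (χ : G → ℂ)) ⟨1, isIrr_one⟩ p e t := by
  obtain ⟨NE, X, ε, d, S, hdis, hNE, hX, hε, hd, htriv, hval, hexc, -, hrel, hrest⟩ :=
    Cfsg.Agent.SmallSimple.TheoremBCor.theoremB_selfCent p hp2 P hP hC e t he ht
  have hp1 : ¬ p ∣ orderOf (1 : G) := by
    rw [orderOf_one]
    exact (Fact.out : p.Prime).one_lt.ne' ∘ Nat.dvd_one.1
  exact Cfsg.Agent.M22.BDataOfBlocks.bdata (P : Subgroup G) hP e t NE X ε d S hdis hNE hX hε hd
    htriv hval hexc (fun Θ hΘ => hrel Θ hΘ 1 hp1) (fun χ h1 h2 => (hrest χ h1 h2).2)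

theorem card_sylow_eq {p m : ℕ} [hp : Fact p.Prime] (h : Nat.card G = p * m) (hm : ¬ p ∣ m)
    (P : Sylow p G) : Nat.card P = p := by
  have hm0 : m ≠ 0 := by
    rintro rfl
    exact hm (dvd_zero p)
  rw [P.card_eq_multiplicity, h, Nat.factorization_mul hp.out.ne_zero hm0, Finsupp.add_apply,
    hp.out.factorization_self, Nat.factorization_eq_zero_of_not_dvd hm, pow_one]

/-- The degrees of the irreducible characters of a simple group of order 443520 whose Sylow
11-, 7- and 5-subgroups are self-centralising with automisers of order 5, 3 and 4. -/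
theorem degree_list [IsSimpleGroup G] (hcard : Nat.card G = 443520)
    [Fact (Nat.Prime 11)] [Fact (Nat.Prime 7)] [Fact (Nat.Prime 5)]
    (P11 : Sylow 11 G) (P7 : Sylow 7 G) (P5 : Sylow 5 G)
    (c11 : Subgroup.centralizer (P11 : Set G) = (P11 : Subgroup G))
    (c7 : Subgroup.centralizer (P7 : Set G) = (P7 : Subgroup G))
    (c5 : Subgroup.centralizer (P5 : Set G) = (P5 : Subgroup G))
    (e11 : (Subgroup.centralizer (P11 : Set G)).relIndex (Subgroup.normalizer (P11 : Set G)) = 5)
    (e7 : (Subgroup.centralizer (P7 : Set G)).relIndex (Subgroup.normalizer (P7 : Set G)) = 3)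
    (e5 : (Subgroup.centralizer (P5 : Set G)).relIndex (Subgroup.normalizer (P5 : Set G)) = 4) :
    ∃ L ∈ [LA, LB, LC, LD], ∃ f : Fin 12 ≃ IrrCharacter G,
      ∀ i : Fin 12, charDegree (f i : G → ℂ) = L.getD i 0 := by
  have h11 : Nat.card P11 = 11 := card_sylow_eq (m := 40320) (by rw [hcard]) (by norm_num) P11
  have h7 : Nat.card P7 = 7 := card_sylow_eq (m := 63360) (by rw [hcard]) (by norm_num) P7
  have h5 : Nat.card P5 = 5 := card_sylow_eq (m := 88704) (by rw [hcard]) (by norm_num) P5
  exact exists_enum hcard (bdata_sylow 11 (by norm_num) P11 h11 c11 5 2 e11 (by norm_num))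
    (bdata_sylow 7 (by norm_num) P7 h7 c7 3 2 e7 (by norm_num))
    (bdata_sylow 5 (by norm_num) P5 h5 c5 4 1 e5 (by norm_num))

end Cfsg.Agent.M22.Degrees
end
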