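import Cfsg.Agent.M22.NonSelfCent
import Cfsg.Agent.SmallSimple.RelSylow
import Cfsg.Agent.SmallSimple.Simple168Klein
import Mathlib
import Cfsg.Agent.SmallSimple.SylowPrimeCount
set_option linter.all false

-- part: M22/SevenTools
section
/-!
# Tools for the Sylow 7-subgroups of a simple group of order 443520
-/

set_option autoImplicit false

namespace Cfsg.Agent.M22.SevenTools

open Cfsg Subgroup
open Cfsg.Agent.SmallSimple Cfsg.Agent.SmallSimple.PrimeLocal
open Cfsg.Agent.SmallSimple.Simple168Klein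

universe u

variable {G : Type u} [Group G] [Finite G]

/-- `11` does not divide the order of the normaliser of a nontrivial 2-subgroup. -/
theorem not_eleven_dvd (hcard : Nat.card G = 443520) [Fact (Nat.Prime 11)]
    (h11 : ∀ Q : Sylow 11 G, centralizer (Q : Set G) = (Q : Subgroup G))
    (W : Subgroup G) (hW : W ≠ ⊥) (h2 : IsPGroup 2 W) :
    ¬ 11 ∣ Nat.card (normalizer (W : Set G)) := by
  intro h
  have : Fact (Nat.Prime 2) := ⟨Nat.prime_two⟩
  obtain ⟨n, hn⟩ := IsPGroup.iff_card.1 h2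
  have hn0 : n ≠ 0 := by
    rintro rfl
    rw [pow_zero] at hn
    exact hW (Subgroup.card_eq_one.1 hn)
  have hn7 : n ≤ 7 := by
    by_contra hcon
    have h1 : 2 ^ 8 ∣ Nat.card G :=
      (pow_dvd_pow 2 (by omega)).trans (hn ▸ W.card_subgroup_dvd_card)
    rw [hcard] at h1
    revert h1
    decide
  obtain ⟨f, hf⟩ := exists_prime_orderOf_dvd_card' (G := normalizer (W : Set G)) 11 h
  have hf' : orderOf (f : G) = 11 := by rw [Subgroup.orderOf_coe, hf]
  obtain ⟨t, htW, ht2, htf⟩ := NonSelfCent.exists_commuting (q := 11) (r := 2) W f.2 hf'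
    (by
      rw [hn]
      intro h1
      have h2 := (Nat.Prime.dvd_of_dvd_pow (by norm_num) h1)
      omega)
    (by rw [hn]; exact dvd_pow_self 2 hn0)
    (by
      intro j hj hjW
      rw [hn] at hjW
      have hj7 : j ≤ n := (Nat.pow_dvd_pow_iff_le_right (by norm_num)).1 hjW
      have hj7' : j ≤ 7 := by omega
      interval_cases j <;> decide)
  -- a Sylow 11-subgroup containing `f`
  have hp : IsPGroup 11 (zpowers (f : G)) :=
    IsPGroup.of_card (n := 1) (by rw [Nat.card_zpowers, hf', pow_one])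
  obtain ⟨Q, hQ⟩ := hp.exists_le_sylow
  have hQ11 : Nat.card Q = 11 :=
    Degrees.card_sylow_eq (m := 40320) (by rw [hcard]) (by norm_num) Q
  have hQeq : zpowers (f : G) = (Q : Subgroup G) := by
    apply Subgroup.eq_of_le_of_card_ge hQ
    rw [Nat.card_zpowers, hf']
    exact hQ11.le
  have ht : t ∈ centralizer (Q : Set G) := by
    rw [mem_centralizer_iff]
    intro y hy
    have hy' : y ∈ zpowers (f : G) := by rw [hQeq]; exact hy
    obtain ⟨k, rfl⟩ := Subgroup.mem_zpowers_iff.1 hy'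
    exact (Commute.zpow_left (show Commute (f : G) t from htf) k).eq
  rw [h11 Q] at ht
  have h3 : orderOf t ∣ 11 := by
    have h4 : orderOf (⟨t, ht⟩ : (Q : Subgroup G)) ∣ Nat.card (Q : Subgroup G) :=
      orderOf_dvd_natCard _
    rw [Subgroup.orderOf_mk] at h4
    rwa [show Nat.card (Q : Subgroup G) = 11 from hQ11] at h4
  rw [ht2] at h3
  revert h3
  decide

/-- `|H| = n |H ∩ N(P)|` with `n ≡ 1 mod 7`. -/
theorem exists_count [Fact (Nat.Prime 7)] (P : Sylow 7 G) (H : Subgroup G)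
    (hPH : (P : Subgroup G) ≤ H) :
    ∃ n, n % 7 = 1 ∧
      n * Nat.card (H ⊓ normalizer (P : Set G) : Subgroup G) = Nat.card H := by
  refine ⟨(normalizer (P : Set G)).relIndex H, ?_, RelSylow.relIndex_mul_card_inf _ H⟩
  have := RelSylow.relIndex_modEq_one P H hPH
  exact this

/-- Growth of 2-subgroups. -/
theorem exists_growth {m : ℕ} {T : Subgroup G} (hT : Nat.card T = 2 ^ m)
    (h : 2 ^ (m + 1) ∣ Nat.card G) :
    ∃ R : Subgroup G, T ≤ R ∧ Nat.card R = 2 * Nat.card T ∧ R ≤ normalizer (T : Set G) := by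
  have : Fact (Nat.Prime 2) := ⟨Nat.prime_two⟩
  obtain ⟨R, hR1, hR2⟩ := Sylow.exists_subgroup_card_pow_succ h hT
  have h1 : Nat.card R = 2 * Nat.card T := by rw [hR1, hT, pow_succ, mul_comm]
  exact ⟨R, hR2, h1, le_normalizer_of_card hR2 h1⟩

omit [Finite G] in
theorem mem_conj_iff (K : Subgroup G) (s x : G) :
    x ∈ K.map (MulAut.conj s).toMonoidHom ↔ s⁻¹ * x * s ∈ K := by
  constructor
  · rintro ⟨k, hk, rfl⟩
    have : s⁻¹ * (MulAut.conj s).toMonoidHom k * s = k := by
      simp only [MulEquiv.coe_toMonoidHom, MulAut.conj_apply]; group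
    rw [this]; exact hk
  · intro h
    refine ⟨_, h, ?_⟩
    simp only [MulEquiv.coe_toMonoidHom, MulAut.conj_apply]; group

/-- The square of an element of a group with a subgroup of index two. -/
theorem sq_mem_of_card {T R : Subgroup G} (hTR : T ≤ R) (hR : Nat.card R = 2 * Nat.card T)
    {s : G} (hs : s ∈ R) : s * s ∈ T := by
  have h1 : (T.subgroupOf R).index = 2 := by
    have h2 : (T.subgroupOf R).index * Nat.card (T.subgroupOf R) = Nat.card R :=
      index_mul_card _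
    rw [Nat.card_congr (subgroupOfEquivOfLe hTR).toEquiv, hR] at h2
    exact Nat.eq_of_mul_eq_mul_right Nat.card_pos h2
  have h3 := Subgroup.mul_self_mem_of_index_two h1 (⟨s, hs⟩ : R)
  exact Subgroup.mem_subgroupOf.1 h3

/-- Swapping data: `T` has index 2 in `R`, `s ∈ R`, `K ≤ T` normalised by `T`. -/
theorem swap_data {T R K : Subgroup G} (hTR : T ≤ R) (hR : Nat.card R = 2 * Nat.card T)
    (hRT : R ≤ normalizer (T : Set G)) (hKT : K ≤ T) (hTK : T ≤ normalizer (K : Set G))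
    {s : G} (hs : s ∈ R) :
    K.map (MulAut.conj s).toMonoidHom ≤ T ∧
    T ≤ normalizer ((K.map (MulAut.conj s).toMonoidHom : Subgroup G) : Set G) ∧
    (K.map (MulAut.conj s).toMonoidHom).map (MulAut.conj s).toMonoidHom = K ∧
    (K.map (MulAut.conj s⁻¹).toMonoidHom) = K.map (MulAut.conj s).toMonoidHom := by
  have hTs : T.map (MulAut.conj s).toMonoidHom = T :=
    (map_conj_eq_iff_mem_normalizer T s).2 (hRT hs)
  have hss : s * s ∈ T := sq_mem_of_card hTR hR hs
  have hK2 : (K.map (MulAut.conj s).toMonoidHom).map (MulAut.conj s).toMonoidHom = K := by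
    rw [map_conj_map_conj]
    exact (map_conj_eq_iff_mem_normalizer K (s * s)).2 (hTK hss)
  refine ⟨?_, ?_, hK2, ?_⟩
  · have := Subgroup.map_mono (f := (MulAut.conj s).toMonoidHom) hKT
    rwa [hTs] at this
  · rw [normalizer_map_conj]
    have := Subgroup.map_mono (f := (MulAut.conj s).toMonoidHom) hTK
    rwa [hTs] at this
  · conv_lhs => rw [← hK2]
    rw [map_conj_map_conj, inv_mul_cancel, map_conj_one]

/-- The intersection of `K` and its conjugate is normalised by `R`. -/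
theorem le_normalizer_inf {T R K : Subgroup G} (hTR : T ≤ R)
    (hR : Nat.card R = 2 * Nat.card T)
    (hRT : R ≤ normalizer (T : Set G)) (hKT : K ≤ T) (hTK : T ≤ normalizer (K : Set G))
    {s : G} (hs : s ∈ R) (hsT : s ∉ T) :
    R ≤ normalizer ((K ⊓ K.map (MulAut.conj s).toMonoidHom : Subgroup G) : Set G) := by
  obtain ⟨h1, h2, h3, h4⟩ := swap_data hTR hR hRT hKT hTK hs
  -- `R` is generated by `T` and `s`
  intro x hx
  rw [← map_conj_eq_iff_mem_normalizer]
  have hcase : x ∈ T ∨ s⁻¹ * x ∈ T := by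
    by_cases hxT : x ∈ T
    · exact Or.inl hxT
    · right
      have h5 : (T.subgroupOf R).index = 2 := by
        have h2 : (T.subgroupOf R).index * Nat.card (T.subgroupOf R) = Nat.card R :=
          index_mul_card _
        rw [Nat.card_congr (subgroupOfEquivOfLe hTR).toEquiv, hR] at h2
        exact Nat.eq_of_mul_eq_mul_right Nat.card_pos h2
      have h6 := (Subgroup.mul_mem_iff_of_index_two h5 (a := (⟨s, hs⟩ : R)⁻¹)
        (b := (⟨x, hx⟩ : R))).2 (by
          have h7 : (⟨s, hs⟩ : R)⁻¹ ∉ T.subgroupOf R := fun h => hsT (by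
            have := (T.subgroupOf R).inv_mem h
            rw [inv_inv] at this
            exact Subgroup.mem_subgroupOf.1 this)
          have h8 : (⟨x, hx⟩ : R) ∉ T.subgroupOf R := fun h => hxT (Subgroup.mem_subgroupOf.1 h)
          exact iff_of_false h7 h8)
      exact Subgroup.mem_subgroupOf.1 h6
  have hT : ∀ t ∈ T, (K ⊓ K.map (MulAut.conj s).toMonoidHom).map (MulAut.conj t).toMonoidHom =
      K ⊓ K.map (MulAut.conj s).toMonoidHom := by
    intro t ht
    rw [Subgroup.map_inf _ _ _ (MulAut.conj t).injective]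
    rw [(map_conj_eq_iff_mem_normalizer K t).2 (hTK ht),
      (map_conj_eq_iff_mem_normalizer _ t).2 (h2 ht)]
  rcases hcase with h | h
  · exact hT x h
  · have hx' : x = s * (s⁻¹ * x) := by group
    rw [hx', ← map_conj_map_conj, hT _ h, Subgroup.map_inf _ _ _ (MulAut.conj s).injective, h3,
      inf_comm]

end Cfsg.Agent.M22.SevenTools
end

-- part: M22/SevenEight
section
/-!
# Subgroups with eight Sylow 7-subgroups
-/

set_option autoImplicit false

namespace Cfsg.Agent.M22.SevenEight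

open Cfsg Subgroup MulAction
open Cfsg.Agent.SmallSimple Cfsg.Agent.SmallSimple.PrimeLocal

universe u

variable {G : Type u} [Group G] [Finite G]

omit [Finite G] in
theorem pow_seven (P : Sylow 7 G) (hP : Nat.card P = 7) {z : G}
    (hz : z ∈ (P : Subgroup G)) : z ^ 7 = 1 := by
  have h1 := pow_card_eq_one' (x := (⟨z, hz⟩ : (P : Subgroup G)))
  rw [show Nat.card (P : Subgroup G) = 7 from hP] at h1
  exact congrArg Subtype.val h1

omit [Finite G] in
/-- A 7-element normalising `P` is in `P`. -/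
theorem mem_of_pow_seven [Fact (Nat.Prime 7)] (P : Sylow 7 G) {x : G} (hx : x ^ 7 = 1)
    (hxN : x ∈ normalizer (P : Set G)) : x ∈ (P : Subgroup G) := by
  have hp : IsPGroup 7 (zpowers x) := by
    rw [IsPGroup.iff_orderOf]
    rintro ⟨g, hg⟩
    obtain ⟨k, rfl⟩ := Subgroup.mem_zpowers_iff.1 hg
    rw [Subgroup.orderOf_mk]
    have h1 : orderOf (x ^ k) ∣ 7 ^ 1 := by
      rw [pow_one]
      apply orderOf_dvd_of_pow_eq_one
      rw [← zpow_natCast, ← zpow_mul, mul_comm, zpow_mul, zpow_natCast, hx, one_zpow]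
    obtain ⟨j, -, hj⟩ := (Nat.dvd_prime_pow (by norm_num)).1 h1
    exact ⟨j, hj⟩
  have h7 : zpowers x ⊔ (P : Subgroup G) = (P : Subgroup G) := by
    have hpg : IsPGroup 7 (zpowers x ⊔ (P : Subgroup G) : Subgroup G) :=
      hp.to_sup_of_normal_right' P.isPGroup' (zpowers_le.2 hxN)
    exact P.3 hpg le_sup_right
  rw [← h7]
  exact (le_sup_left : zpowers x ≤ _) (mem_zpowers x)

/-- If a nontrivial element of `P` is conjugated into `N(P)` by `a` then `a ∈ N(P)`. -/
theorem mem_normalizer_of_conj [Fact (Nat.Prime 7)] (P : Sylow 7 G) (hP : Nat.card P = 7)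
    {z a : G} (hz : z ∈ (P : Subgroup G)) (hz1 : z ≠ 1)
    (h : a⁻¹ * z * a ∈ normalizer (P : Set G)) : a ∈ normalizer (P : Set G) := by
  have hP' : Nat.card (P : Subgroup G) = 7 := hP
  have hz7 : z ^ 7 = 1 := pow_seven P hP hz
  have h2 : a⁻¹ * z * a ∈ (P : Subgroup G) := by
    apply mem_of_pow_seven P _ h
    have : (a⁻¹ * z * a) ^ 7 = a⁻¹ * z ^ 7 * a := by
      have := conj_pow (a := a⁻¹) (b := z) (i := 7)
      rwa [inv_inv] at this
    rw [this, hz7]; group
  have h3 : a⁻¹ ∈ normalizer (P : Set G) := by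
    have : Finite (P : Subgroup G) := inferInstance
    have h4 : ∀ y ∈ (P : Subgroup G), a⁻¹ * y * a⁻¹⁻¹ ∈ (P : Subgroup G) := by
      intro y hy
      have h5 : (⟨y, hy⟩ : (P : Subgroup G)) ∈ zpowers (⟨z, hz⟩ : (P : Subgroup G)) :=
        mem_zpowers_of_prime_card hP' (by simpa [Subtype.ext_iff] using hz1)
      obtain ⟨k, hk⟩ := mem_zpowers_iff.1 h5
      have h6 : z ^ k = y := by simpa [Subtype.ext_iff] using hk
      rw [← h6, ← conj_zpow, inv_inv]
      exact zpow_mem h2 k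
    change a⁻¹ ∈ normalizer ((P : Subgroup G) : Set G)
    rw [← Simple168Klein.map_conj_eq_iff_mem_normalizer]
    apply Subgroup.eq_of_le_of_card_ge
    · rintro _ ⟨y, hy, rfl⟩
      exact h4 y hy
    · rw [Simple168Klein.card_map_conj]
  exact (inv_mem_iff (H := normalizer (P : Set G))).1 h3

/-- `P` is transitive on the nontrivial cosets of `N_H(P)` if there are eight Sylow subgroups. -/
theorem exists_trans [Fact (Nat.Prime 7)] (P : Sylow 7 G) (hP : Nat.card P = 7)
    {H : Subgroup G} (hPH : (P : Subgroup G) ≤ H)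
    (h8 : 8 * Nat.card (H ⊓ normalizer (P : Set G) : Subgroup G) = Nat.card H) {a b : G}
    (ha : a ∈ H) (hb : b ∈ H) (haN : a ∉ normalizer (P : Set G))
    (hbN : b ∉ normalizer (P : Set G)) :
    ∃ z ∈ (P : Subgroup G), b⁻¹ * z * a ∈ normalizer (P : Set G) := by
  classical
  let N' : Subgroup H := (normalizer (P : Set G)).subgroupOf H
  have hΩ : Nat.card (H ⧸ N') = 8 := by
    have h1 := N'.card_eq_card_quotient_mul_card_subgroup
    have h2 : Nat.card N' = Nat.card (H ⊓ normalizer (P : Set G) : Subgroup G) := by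
      have h3 : N' = (H ⊓ normalizer (P : Set G)).subgroupOf H := by
        rw [Subgroup.inf_subgroupOf_left]
      rw [h3]
      exact Nat.card_congr (subgroupOfEquivOfLe inf_le_left).toEquiv
    rw [h2, ← h8] at h1
    exact (Nat.eq_of_mul_eq_mul_right Nat.card_pos h1).symm
  let f : P → {ω : H ⧸ N' // ω ≠ ((1 : H) : H ⧸ N')} := fun z =>
    ⟨((⟨z, hPH z.2⟩ * ⟨a, ha⟩ : H) : H ⧸ N'), by
      intro h
      rw [eq_comm, QuotientGroup.eq] at h
      have h1 : (z : G) * a ∈ normalizer (P : Set G) := by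
        have := Subgroup.mem_subgroupOf.1 h
        simpa using this
      apply haN
      have h2 : a = (z : G)⁻¹ * (z * a) := by group
      rw [h2]
      exact mul_mem (inv_mem (le_normalizer z.2)) h1⟩
  have hf : Function.Injective f := by
    intro z w h
    have h1 : ((⟨z, hPH z.2⟩ * ⟨a, ha⟩ : H) : H ⧸ N') = ((⟨w, hPH w.2⟩ * ⟨a, ha⟩ : H) : H ⧸ N') :=
      congrArg Subtype.val h
    rw [QuotientGroup.eq] at h1
    have h2 : ((z : G) * a)⁻¹ * (w * a) ∈ normalizer (P : Set G) := Subgroup.mem_subgroupOf.1 h1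
    by_contra hne
    apply haN
    refine mem_normalizer_of_conj P hP (z := (z : G)⁻¹ * w) (mul_mem (inv_mem z.2) w.2) ?_ ?_
    · intro h3
      rw [inv_mul_eq_one] at h3
      exact hne (Subtype.ext h3)
    · have h4 : a⁻¹ * ((z : G)⁻¹ * w) * a = ((z : G) * a)⁻¹ * (w * a) := by group
      rw [h4]; exact h2
  have hcard : Nat.card {ω : H ⧸ N' // ω ≠ ((1 : H) : H ⧸ N')} = 7 := by
    have := Fintype.ofFinite (H ⧸ N')
    rw [Nat.card_eq_fintype_card, Fintype.card_subtype_compl, Fintype.card_subtype_eq,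
      ← Nat.card_eq_fintype_card, hΩ]
  have hbij := hf.bijective_of_nat_card_le (by rw [hcard]; exact hP.ge)
  have hb1 : ((⟨b, hb⟩ : H) : H ⧸ N') ≠ ((1 : H) : H ⧸ N') := by
    intro h
    rw [eq_comm, QuotientGroup.eq] at h
    apply hbN
    have := Subgroup.mem_subgroupOf.1 h
    simpa using this
  obtain ⟨z, hz⟩ := hbij.2 ⟨_, hb1⟩
  refine ⟨z, z.2, ?_⟩
  have h1 : ((⟨z, hPH z.2⟩ * ⟨a, ha⟩ : H) : H ⧸ N') = ((⟨b, hb⟩ : H) : H ⧸ N') :=
    congrArg Subtype.val hz
  rw [eq_comm, QuotientGroup.eq] at h1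
  have h2 := Subgroup.mem_subgroupOf.1 h1
  have h3 : b⁻¹ * ((z : G) * a) ∈ normalizer (P : Set G) := h2
  rwa [← mul_assoc] at h3

/-- `K` is normal in every `H ≥ P K` with eight Sylow 7-subgroups. -/
theorem le_normalizer_of_eight [Fact (Nat.Prime 7)] (P : Sylow 7 G) (hP : Nat.card P = 7)
    {e : ℕ} {K : Subgroup G} (hloc : IsLocal 7 P e K)
    {H : Subgroup G} (hPH : (P : Subgroup G) ≤ H) (hKH : K ≤ H)
    (h8 : 8 * Nat.card (H ⊓ normalizer (P : Set G) : Subgroup G) = Nat.card H) :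
    H ≤ normalizer (K : Set G) := by
  classical
  have hP' : Nat.card (P : Subgroup G) = 7 := hP
  have hKN : K ≤ normalizer (P : Set G) := hloc.le_centralizer.trans
    (SylowPrimeCount.centralizer_le_normalizer' (P : Subgroup G))
  have hz7 : ∀ z ∈ (P : Subgroup G), z ^ 7 = 1 := fun z hz => pow_seven P hP hz
  -- `K` is in the core
  have hcore1 : ∀ k ∈ K, ∀ h ∈ H, h⁻¹ * k * h ∈ normalizer (P : Set G) := by
    intro k hk h hh
    by_cases hhN : h ∈ normalizer (P : Set G)
    · exact mul_mem (mul_mem (inv_mem hhN) (hKN hk)) hhN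
    have hkh : k * h ∉ normalizer (P : Set G) := fun h1 => hhN (by
      have h2 : h = k⁻¹ * (k * h) := by group
      rw [h2]
      exact mul_mem (inv_mem (hKN hk)) h1)
    obtain ⟨z, hz, hzn⟩ := exists_trans P hP hPH h8 hh (mul_mem (hKH hk) hh) hhN hkh
    -- the coset of `h`
    let ω : G ⧸ normalizer (P : Set G) := (h : G)
    have h1 : k • ω = z • ω := by
      change ((k * h : G) : G ⧸ normalizer (P : Set G)) = ((z * h : G) : _)
      rw [QuotientGroup.eq, ← mul_assoc]
      exact hzn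
    have hcomm : Commute k z := hloc.comm k hk z hz
    have h2 : ∀ i : ℕ, k ^ i • ω = z ^ i • ω := by
      intro i
      induction i with
      | zero => simp
      | succ i ih =>
        rw [pow_succ', mul_smul, ih, ← mul_smul, (hcomm.pow_right i).eq, mul_smul, h1,
          ← mul_smul, ← pow_succ]
    have h3 : z ^ Nat.card K • ω = ω := by
      rw [← h2]
      have h4 : k ^ Nat.card K = 1 := ((hloc.mem_iff k).1 hk).2
      rw [h4, one_smul]
    have h4 : z ^ Nat.card K = 1 := by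
      by_contra hne
      apply hhN
      refine mem_normalizer_of_conj P hP (z := z ^ Nat.card K) (pow_mem hz _) hne ?_
      have h5 : ((z ^ Nat.card K * h : G) : G ⧸ normalizer (P : Set G)) = (h : G) := h3
      rw [eq_comm, QuotientGroup.eq, ← mul_assoc] at h5
      exact h5
    have h5 : z = 1 := by
      have h6 : orderOf z ∣ 7 := orderOf_dvd_of_pow_eq_one (hz7 z hz)
      have h7 : orderOf z ∣ Nat.card K := orderOf_dvd_of_pow_eq_one h4
      have h8 : Nat.Coprime 7 (Nat.card K) :=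
        (Nat.Prime.coprime_iff_not_dvd (by norm_num)).2 hloc.not_dvd
      exact orderOf_eq_one_iff.1 (Nat.eq_one_of_dvd_coprimes h8 h6 h7)
    rw [h5, one_smul] at h1
    have h6 : ((k * h : G) : G ⧸ normalizer (P : Set G)) = (h : G) := h1
    rw [eq_comm, QuotientGroup.eq, ← mul_assoc] at h6
    exact h6
  -- the core is `K`
  have hcore2 : ∀ x ∈ H, (∀ h ∈ H, h⁻¹ * x * h ∈ normalizer (P : Set G)) → x ∈ K := by
    intro x hx hxc
    have hxN : x ∈ normalizer (P : Set G) := by simpa using hxc 1 H.one_mem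
    have hHN : ¬ H ≤ normalizer (P : Set G) := by
      intro h
      rw [inf_eq_left.2 h] at h8
      have : 0 < Nat.card H := Nat.card_pos
      omega
    -- elements of the core of order dividing 7 are trivial
    have key : ∀ w : G, w ^ 7 = 1 → (∀ h ∈ H, h⁻¹ * w * h ∈ normalizer (P : Set G)) → w = 1 := by
      intro w hw7 hw
      by_contra hne
      apply hHN
      intro h hh
      refine mem_normalizer_of_conj P hP (z := w) ?_ hne (hw h hh)
      exact mem_of_pow_seven P hw7 (by simpa using hw 1 H.one_mem)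
    have h7 : ¬ 7 ∣ orderOf x := by
      rintro ⟨m, hm⟩
      have hm0 : m ≠ 0 := by
        rintro rfl
        have := orderOf_pos x
        omega
      have h1 : x ^ m = 1 := by
        apply key
        · rw [← pow_mul, mul_comm, ← hm, pow_orderOf_eq_one]
        · intro h hh
          have h2 : h⁻¹ * x ^ m * h = (h⁻¹ * x * h) ^ m := by
            have := conj_pow (a := h⁻¹) (b := x) (i := m)
            rw [inv_inv] at this
            exact this.symm
          rw [h2]
          exact pow_mem (hxc h hh) m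
      have h2 := orderOf_dvd_of_pow_eq_one h1
      rw [hm] at h2
      have := Nat.le_of_dvd (Nat.pos_of_ne_zero hm0) h2
      omega
    apply hloc.mem_of_coprime x _ h7
    rw [mem_centralizer_iff]
    intro z hz
    have hzP : z ∈ (P : Subgroup G) := hz
    have h1 : x * z * x⁻¹ ∈ (P : Subgroup G) := (mem_normalizer_iff.1 hxN z).1 hzP
    have h2 : z⁻¹ * (x * z * x⁻¹) = 1 := by
      apply key _ (hz7 _ (mul_mem (inv_mem hzP) h1))
      intro h hh
      have h3 : h⁻¹ * (z⁻¹ * (x * z * x⁻¹)) * h =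
          ((z * h)⁻¹ * x * (z * h)) * (h⁻¹ * x * h)⁻¹ := by group
      rw [h3]
      exact mul_mem (hxc _ (mul_mem (hPH hzP) hh)) (inv_mem (hxc h hh))
    have h3 : x * z * x⁻¹ = z := by
      rw [inv_mul_eq_one] at h2
      exact h2.symm
    calc z * x = x * z * x⁻¹ * x := by rw [h3]
      _ = x * z := by group
  intro h hh
  rw [← Simple168Klein.map_conj_eq_iff_mem_normalizer]
  apply Subgroup.eq_of_le_of_card_ge
  · rintro _ ⟨k, hk, rfl⟩
    change h * k * h⁻¹ ∈ K
    apply hcore2 _ (mul_mem (mul_mem hh (hKH hk)) (inv_mem hh))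
    intro g hg
    have h1 : g⁻¹ * (h * k * h⁻¹) * g = (h⁻¹ * g)⁻¹ * k * (h⁻¹ * g) := by group
    rw [h1]
    exact hcore1 k hk _ (mul_mem (inv_mem hh) hg)
  · rw [Simple168Klein.card_map_conj]

/-- **Tool K** for `G ⧸ H` with `N(P) ≤ H`. -/
theorem exists_index [IsSimpleGroup G] (hG : ¬ IsMulCommutative G) [Fact (Nat.Prime 7)]
    (P : Sylow 7 G) (hP : Nat.card P = 7) {e : ℕ} {K : Subgroup G} (hloc : IsLocal 7 P e K)
    {H : Subgroup G} (hNH : normalizer (P : Set G) ≤ H) (hH : H ≠ ⊤) :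
    ∃ o : ℕ, H.index = 1 + 7 * o ∧
      (2 * Nat.card K ∣ o.factorial ∨ (o ≤ 1 ∧ Nat.card K = 1)) := by
  have hP' : Nat.card (P : Subgroup G) = 7 := hP
  have hPH : (P : Subgroup G) ≤ H := le_trans le_normalizer hNH
  -- a generator of `P`
  obtain ⟨x, hx⟩ := exists_prime_orderOf_dvd_card' (G := (P : Subgroup G)) 7 (by rw [hP'])
  have hxP : (x : G) ∈ (P : Subgroup G) := x.2
  have hx1 : (x : G) ≠ 1 := by
    intro h
    have h' : x = 1 := Subtype.ext h
    rw [h', orderOf_one] at hx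
    omega
  have hfix : ∀ ω : G ⧸ H, (∀ y ∈ (P : Subgroup G), y • ω = ω) → ω = ((1 : G) : G ⧸ H) := by
    intro ω hω
    induction ω using QuotientGroup.induction_on with
    | H g =>
      have h1 : g⁻¹ * x * g ∈ H := by
        have h2 : (((x : G) * g : G) : G ⧸ H) = (g : G ⧸ H) := hω x hxP
        have h3 := QuotientGroup.eq.1 h2.symm
        rwa [← mul_assoc] at h3
      have h7 : (g⁻¹ * (x : G) * g) ^ 7 = 1 := by
        have h8 : (g⁻¹ * (x : G) * g) ^ 7 = g⁻¹ * (x : G) ^ 7 * g := by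
          have := conj_pow (a := g⁻¹) (b := (x : G)) (i := 7)
          rwa [inv_inv] at this
        rw [h8, pow_seven P hP hxP]; group
      obtain ⟨h, hh, z, hz, hzeq⟩ := RelSylow.exists_conj_of_pow_eq_one P H hPH h1 h7
      have h8 : g * h ∈ normalizer (P : Set G) := by
        apply mem_normalizer_of_conj P hP hxP hx1
        have h9 : (g * h)⁻¹ * (x : G) * (g * h) = z := by
          calc (g * h)⁻¹ * (x : G) * (g * h) = h⁻¹ * (g⁻¹ * x * g) * h := by group
            _ = h⁻¹ * (h * z * h⁻¹) * h := by rw [hzeq]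
            _ = z := by group
        rw [h9]
        exact le_normalizer hz
      have h9 : g ∈ H := by
        have h10 : g = (g * h) * h⁻¹ := by group
        rw [h10]
        exact mul_mem (hNH h8) (inv_mem hh)
      rw [eq_comm, QuotientGroup.eq, inv_one, one_mul]
      exact h9
  have hbase : ∀ y ∈ (P : Subgroup G), y • ((1 : G) : G ⧸ H) = ((1 : G) : G ⧸ H) := by
    intro y hy
    change ((y * 1 : G) : G ⧸ H) = ((1 : G) : G ⧸ H)
    rw [mul_one, eq_comm, QuotientGroup.eq, inv_one, one_mul]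
    exact hPH hy
  obtain ⟨o, ho1, ho2⟩ := OrbitSign.card_dvd_of_commute (Ω := G ⧸ H) hG
    (faithful_quotient H hH) (P : Subgroup G) K
    (by rw [hP']; decide) hloc.comm
    (by rw [hP']; exact (((Nat.Prime.coprime_iff_not_dvd (by norm_num)).2 hloc.not_dvd)).symm)
    (fun ω ω' hω hω' => by rw [hfix ω hω, hfix ω' hω'])
    (fun ω hω => eq_one_of_moved (by norm_num) hP' hω)
  refine ⟨o, ?_, ho2⟩
  have h1 : Nat.card {ω : G ⧸ H // ∀ y ∈ (P : Subgroup G), y • ω = ω} = 1 := by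
    rw [Nat.card_eq_one_iff_unique]
    exact ⟨⟨fun a b => Subtype.ext (by rw [hfix _ a.2, hfix _ b.2])⟩, ⟨⟨_, hbase⟩⟩⟩
  rw [h1, hP'] at ho1
  exact ho1

end Cfsg.Agent.M22.SevenEight
end

-- part: M22/TwoGroupRegular
section
/-!
# A 2-group argument for the case `(e, |K|) = (6, 4)`
-/

set_option autoImplicit false

namespace Cfsg.Agent.M22.TwoGroupRegular

open Subgroup MulAction

variable {A : Type*} [Group A] [Finite A]

theorem not_three {T K : Subgroup A}
    (hfix : ∀ x : A, x ∉ K → Nat.card (fixedBy (A ⧸ T) x) ≤ 2) {x : A} (hx : x ∉ K)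
    {g₀ g₁ g₂ : A} (h0 : g₀⁻¹ * x * g₀ ∈ T) (h1 : g₁⁻¹ * x * g₁ ∈ T) (h2 : g₂⁻¹ * x * g₂ ∈ T)
    (h01 : g₀⁻¹ * g₁ ∉ T) (h02 : g₀⁻¹ * g₂ ∉ T) (h12 : g₁⁻¹ * g₂ ∉ T) : False := by
  classical
  have hmem : ∀ g : A, g⁻¹ * x * g ∈ T → (g : A ⧸ T) ∈ fixedBy (A ⧸ T) x := by
    intro g hg
    rw [mem_fixedBy]
    change ((x * g : A) : A ⧸ T) = g
    rw [eq_comm, QuotientGroup.eq, ← mul_assoc]
    exact hg
  have hfin : Finite (fixedBy (A ⧸ T) x) := inferInstance
  let f : Fin 3 → fixedBy (A ⧸ T) x := ![⟨g₀, hmem _ h0⟩, ⟨g₁, hmem _ h1⟩, ⟨g₂, hmem _ h2⟩]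
  have hf : Function.Injective f := by
    have n01 : (g₀ : A ⧸ T) ≠ g₁ := fun h => h01 (QuotientGroup.eq.1 h)
    have n02 : (g₀ : A ⧸ T) ≠ g₂ := fun h => h02 (QuotientGroup.eq.1 h)
    have n12 : (g₁ : A ⧸ T) ≠ g₂ := fun h => h12 (QuotientGroup.eq.1 h)
    intro i j hij
    fin_cases i <;> fin_cases j <;>
      simp_all [f, Subtype.ext_iff, eq_comm]
  have h3 := Nat.card_le_card_of_injective f hf
  rw [Nat.card_eq_fintype_card, Fintype.card_fin] at h3
  have := hfix x hx
  omega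

section

variable {T K L : Subgroup A}

/-- `L` acts semiregularly. -/
theorem inf_eq_bot (hA : Nat.card A = 64) (hT : Nat.card T = 8)
    (hL : Nat.card L = 4) (hLn : L.Normal) (hKL : K ⊓ L = ⊥)
    (hfix : ∀ x : A, x ∉ K → Nat.card (fixedBy (A ⧸ T) x) ≤ 2) : L ⊓ T = ⊥ := by
  classical
  rw [eq_bot_iff]
  rintro u ⟨huL, huT⟩
  rw [mem_bot]
  by_contra hu
  have hΩ : Nat.card (A ⧸ T) = 8 := by
    have := T.card_eq_card_quotient_mul_card_subgroup
    rw [hA, hT] at this
    omega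
  have := Fintype.ofFinite (A ⧸ T)
  have := Fintype.ofFinite L
  let t : Finset L := Finset.univ.erase 1
  have ht : t.card = 3 := by
    rw [Finset.card_erase_of_mem (Finset.mem_univ _), Finset.card_univ,
      ← Nat.card_eq_fintype_card, hL]
  let f : A ⧸ T → L := fun ω => ⟨ω.out * u * ω.out⁻¹, hLn.conj_mem u huL _⟩
  have hf : ∀ ω ∈ (Finset.univ : Finset (A ⧸ T)), f ω ∈ t := by
    intro ω _
    refine Finset.mem_erase.2 ⟨fun h => hu ?_, Finset.mem_univ _⟩
    have h1 : ω.out * u * ω.out⁻¹ = 1 := congrArg Subtype.val h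
    have h2 : u = ω.out⁻¹ * (ω.out * u * ω.out⁻¹) * ω.out := by group
    rw [h2, h1]; group
  obtain ⟨y, hy, hy2⟩ := Finset.exists_lt_card_fiber_of_mul_lt_card_of_maps_to (n := 2) hf (by
    rw [ht, Finset.card_univ, ← Nat.card_eq_fintype_card, hΩ]; norm_num)
  have hy1 : (y : A) ∉ K := by
    intro h
    have h1 : (y : A) ∈ K ⊓ L := ⟨h, y.2⟩
    rw [hKL, mem_bot] at h1
    exact (Finset.mem_erase.1 hy).1 (Subtype.ext h1)
  have h3 : (Finset.univ.filter fun ω => f ω = y).card ≤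
      Nat.card (fixedBy (A ⧸ T) (y : A)) := by
    have h4 : (Finset.univ.filter fun ω => f ω = y).card = Nat.card {ω : A ⧸ T // f ω = y} := by
      rw [Nat.card_eq_fintype_card, Fintype.card_subtype]
    rw [h4]
    apply Nat.card_le_card_of_injective
      (fun ω : {ω : A ⧸ T // f ω = y} => (⟨ω.1, ?_⟩ : fixedBy (A ⧸ T) (y : A)))
    · intro a b hab
      exact Subtype.ext (congrArg (fun z : fixedBy (A ⧸ T) (y : A) => z.1) hab)
    · rw [mem_fixedBy]
      have h5 : (y : A) = ω.1.out * u * ω.1.out⁻¹ := (congrArg Subtype.val ω.2).symm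
      have h6 : ((ω.1.out : A) : A ⧸ T) = ω.1 := Quotient.out_eq' _
      rw [← h6]
      change (((y : A) * ω.1.out : A) : A ⧸ T) = ω.1.out
      rw [eq_comm, QuotientGroup.eq, h5]
      have h7 : ω.1.out⁻¹ * (ω.1.out * u * ω.1.out⁻¹ * ω.1.out) = u := by group
      rw [h7]
      exact huT
  have := hfix y hy1
  omega

/-- An element of `T` centralising `L` is in `K`. -/
theorem mem_of_centralizer (hA : Nat.card A = 64) (hT : Nat.card T = 8)
    (hL : Nat.card L = 4) (hLn : L.Normal) (hKL : K ⊓ L = ⊥)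
    (hfix : ∀ x : A, x ∉ K → Nat.card (fixedBy (A ⧸ T) x) ≤ 2) {x : A} (hxT : x ∈ T)
    (hx : ∀ l ∈ L, x * l = l * x) : x ∈ K := by
  classical
  by_contra hxK
  have hLT := inf_eq_bot hA hT hL hLn hKL hfix
  have := Fintype.ofFinite L
  -- three distinct elements of `L`
  obtain ⟨l₀, l₁, l₂, h01, h02, h12⟩ : ∃ a b c : L, a ≠ b ∧ a ≠ c ∧ b ≠ c := by
    have h : 2 < (Finset.univ : Finset L).card := by
      rw [Finset.card_univ, ← Nat.card_eq_fintype_card, hL]; norm_num
    obtain ⟨a, -, b, -, c, -, h1, h2, h3⟩ := Finset.two_lt_card_iff.1 h |> fun ⟨a, b, c, ha, hb, hc, h1, h2, h3⟩ =>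
      (⟨a, ha, b, hb, c, hc, h1, h2, h3⟩ : ∃ a, a ∈ (Finset.univ : Finset L) ∧ ∃ b, b ∈ (Finset.univ : Finset L) ∧ ∃ c, c ∈ (Finset.univ : Finset L) ∧ a ≠ b ∧ a ≠ c ∧ b ≠ c)
    exact ⟨a, b, c, h1, h2, h3⟩
  have hne : ∀ a b : L, a ≠ b → (a : A)⁻¹ * b ∉ T := by
    intro a b hab h
    have h1 : (a : A)⁻¹ * b ∈ L ⊓ T := ⟨L.mul_mem (L.inv_mem a.2) b.2, h⟩
    rw [hLT, mem_bot, inv_mul_eq_one] at h1
    exact hab (Subtype.ext h1)
  have hconj : ∀ a : L, (a : A)⁻¹ * x * a ∈ T := by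
    intro a
    have h1 : (a : A)⁻¹ * x * a = x := by
      rw [mul_assoc, hx a a.2, inv_mul_cancel_left]
    rw [h1]; exact hxT
  exact not_three hfix hxK (hconj l₀) (hconj l₁) (hconj l₂) (hne _ _ h01) (hne _ _ h02)
    (hne _ _ h12)

set_option maxHeartbeats 1000000 in
/-- No `p` in the centraliser of `L` outside `K L` has its square in `K`. -/
theorem mem_sup_of_sq_mem (hA : Nat.card A = 64) (hT : Nat.card T = 8)
    (hKT : K ≤ T) (hK : Nat.card K = 4) (hKn : K.Normal)
    (hL : Nat.card L = 4) (hLn : L.Normal) (hKL : K ⊓ L = ⊥)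
    (hfix : ∀ x : A, x ∉ K → Nat.card (fixedBy (A ⧸ T) x) ≤ 2) {p : A}
    (hp : ∀ l ∈ L, p * l = l * p) (hp2 : p * p ∈ K) : p ∈ K ⊔ L := by
  classical
  by_contra hpE
  have hLT := inf_eq_bot hA hT hL hLn hKL hfix
  have hcent := fun {x : A} hxT hx => mem_of_centralizer (x := x) hA hT hL hLn hKL hfix hxT hx
  -- `K` and `L` commute
  have hcomm : ∀ k ∈ K, ∀ l ∈ L, k * l = l * k := fun k hk l hl =>
    (Subgroup.commute_of_normal_of_disjoint K L hKn hLn (disjoint_iff.2 hKL) k l hk hl).eq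
  have habel : ∀ H : Subgroup A, Nat.card H = 4 → ∀ a ∈ H, ∀ b ∈ H, a * b = b * a := by
    intro H hH a ha b hb
    have : Fact (Nat.Prime 2) := ⟨Nat.prime_two⟩
    have h1 := IsPGroup.isMulCommutative_of_card_eq_prime_sq (p := 2) (G := H) (by rw [hH]; norm_num)
    exact congrArg Subtype.val (h1.is_comm.comm (⟨a, ha⟩ : H) ⟨b, hb⟩)
  have hLab := habel L hL
  have hKab := habel K hK
  -- the element `τ`
  obtain ⟨τ, hτT, hτK⟩ : ∃ τ ∈ T, τ ∉ K := by
    by_contra hcon
    push Not at hcon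
    have := Subgroup.card_dvd_of_le (show T ≤ K from hcon)
    rw [hT, hK] at this
    revert this; decide
  have hτ2 : τ * τ ∈ K := by
    have h1 : (K.subgroupOf T).index = 2 := by
      have h2 : (K.subgroupOf T).index * Nat.card (K.subgroupOf T) = Nat.card T :=
        index_mul_card _
      rw [Nat.card_congr (subgroupOfEquivOfLe hKT).toEquiv, hT, hK] at h2
      omega
    exact Subgroup.mem_subgroupOf.1 (Subgroup.mul_self_mem_of_index_two h1 (⟨τ, hτT⟩ : T))
  -- a fixed element of `L`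
  have h2A : IsPGroup 2 A := IsPGroup.of_card (n := 6) (by rw [hA]; norm_num)
  have : Fact (Nat.Prime 2) := ⟨Nat.prime_two⟩
  obtain ⟨u, huL, huc, hu1⟩ :=
    Cfsg.Agent.SmallSimple.SylowPrimeCount.exists_mem_center_of_normal h2A L (by
      rintro rfl
      rw [Subgroup.card_bot] at hL
      norm_num at hL)
  have huT : u ∉ T := fun h => hu1 (by
    have h1 : u ∈ L ⊓ T := ⟨huL, h⟩
    rwa [hLT, mem_bot] at h1)
  -- P1
  have hP1 : ∀ c : A, (∀ l ∈ L, c * l = l * c) → c⁻¹ * τ * c ∈ T → c ∈ K ⊔ L := by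
    intro c hc hcT
    by_contra hcE
    refine not_three hfix hτK (g₀ := 1) (g₁ := u) (g₂ := c) (by simpa using hτT) ?_ hcT ?_ ?_ ?_
    · have h1 : u⁻¹ * τ * u = τ := by
        rw [mul_assoc, mem_center_iff.1 huc τ, inv_mul_cancel_left]
      rw [h1]; exact hτT
    · simpa using huT
    · intro h
      rw [inv_one, one_mul] at h
      exact hcE ((le_sup_left : K ≤ K ⊔ L) (hcent h hc))
    · intro h
      apply hcE
      have h1 : u⁻¹ * c ∈ K := hcent h (by
        intro l hl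
        rw [mul_assoc, hc l hl, ← mul_assoc, ← mul_assoc]
        congr 1
        have h2 := hLab u huL l hl
        calc u⁻¹ * l = u⁻¹ * (l * u) * u⁻¹ := by group
          _ = u⁻¹ * (u * l) * u⁻¹ := by rw [h2]
          _ = l * u⁻¹ := by group)
      have h2 : c = u * (u⁻¹ * c) := by group
      rw [h2]
      exact Subgroup.mul_mem _ ((le_sup_right : L ≤ K ⊔ L) huL) ((le_sup_left : K ≤ K ⊔ L) h1)
  -- orders
  have hE : Nat.card (K ⊔ L : Subgroup A) = 16 := by
    have h1 : K.relIndex (K ⊔ L) = K.relIndex L := relIndex_sup_left L K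
    have h2 : K.relIndex L = 4 := by
      rw [← Subgroup.inf_relIndex_right, hKL, relIndex_bot_left, hL]
    have h3 := relIndex_mul_relIndex ⊥ K (K ⊔ L) bot_le le_sup_left
    rw [relIndex_bot_left, relIndex_bot_left, hK, h1, h2] at h3
    exact h3.symm
  have hEn : (K ⊔ L).Normal := inferInstance
  have hmemC : ∀ x : A, x ∈ centralizer (L : Set A) ↔ ∀ l ∈ L, x * l = l * x := by
    intro x
    rw [mem_centralizer_iff]
    exact ⟨fun h l hl => (h l hl).symm, fun h l hl => (h l hl).symm⟩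
  have hEC : K ⊔ L ≤ centralizer (L : Set A) :=
    sup_le (fun k hk => (hmemC k).2 fun l hl => hcomm k hk l hl)
      (fun x hx => (hmemC x).2 fun l hl => hLab x hx l hl)
  have hpC : p ∈ centralizer (L : Set A) := (hmemC p).2 hp
  have hτC : τ ∉ centralizer (L : Set A) := fun h => hτK (hcent hτT ((hmemC τ).1 h))
  have hC32 : Nat.card (centralizer (L : Set A)) = 32 := by
    have h1 : Nat.card (centralizer (L : Set A)) ∣ 2 ^ 6 := by
      have := (centralizer (L : Set A)).card_subgroup_dvd_card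
      rwa [hA] at this
    have h2 : 16 ∣ Nat.card (centralizer (L : Set A)) := hE ▸ card_dvd_of_le hEC
    have h3 : Nat.card (centralizer (L : Set A)) ≠ 64 := by
      intro h
      have := Subgroup.eq_top_of_card_eq (centralizer (L : Set A)) (by rw [h, hA])
      exact hτC (this ▸ mem_top τ)
    have h4 : Nat.card (centralizer (L : Set A)) ≠ 16 := by
      intro h
      have := Subgroup.eq_of_le_of_card_ge hEC (by rw [hE, h])
      exact hpE (this ▸ hpC)
    obtain ⟨j, hj, hj2⟩ := (Nat.dvd_prime_pow Nat.prime_two).1 h1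
    rw [hj2] at h2 h3 h4 ⊢
    have h5 : 4 ≤ j := (Nat.pow_dvd_pow_iff_le_right (x := 2) (by norm_num)).1
      (by rw [show (2 : ℕ) ^ 4 = 16 by norm_num]; exact h2)
    have h6 : j ≠ 6 := by
      rintro rfl
      exact h3 (by norm_num)
    have h7 : j ≠ 4 := by
      rintro rfl
      exact h4 (by norm_num)
    have h8 : j = 5 := by omega
    rw [h8]; norm_num
  have hidx : ((K ⊔ L).subgroupOf (centralizer (L : Set A))).index = 2 := by
    have h2 : ((K ⊔ L).subgroupOf (centralizer (L : Set A))).index *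
        Nat.card ((K ⊔ L).subgroupOf (centralizer (L : Set A))) =
        Nat.card (centralizer (L : Set A)) := index_mul_card _
    rw [Nat.card_congr (subgroupOfEquivOfLe hEC).toEquiv, hE, hC32] at h2
    omega
  have hp'C : τ⁻¹ * p * τ ∈ centralizer (L : Set A) := by
    rw [hmemC]
    intro l hl
    have h1 := hp (τ * l * τ⁻¹) (hLn.conj_mem l hl τ)
    calc τ⁻¹ * p * τ * l = τ⁻¹ * (p * (τ * l * τ⁻¹)) * τ := by group
      _ = τ⁻¹ * (τ * l * τ⁻¹ * p) * τ := by rw [h1]
      _ = l * (τ⁻¹ * p * τ) := by group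
  have hp'E : τ⁻¹ * p * τ ∉ K ⊔ L := by
    intro h
    have h1 := hEn.conj_mem _ h τ
    have h2 : τ * (τ⁻¹ * p * τ) * τ⁻¹ = p := by group
    exact hpE (h2 ▸ h1)
  have he : p⁻¹ * (τ⁻¹ * p * τ) ∈ K ⊔ L := by
    have h6 := (Subgroup.mul_mem_iff_of_index_two hidx
      (a := (⟨p, hpC⟩ : centralizer (L : Set A))⁻¹)
      (b := (⟨τ⁻¹ * p * τ, hp'C⟩ : centralizer (L : Set A)))).2 (by
        refine iff_of_false (fun h => hpE ?_) (fun h => hp'E (Subgroup.mem_subgroupOf.1 h))
        have := ((K ⊔ L).subgroupOf (centralizer (L : Set A))).inv_mem h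
        rw [inv_inv] at this
        exact Subgroup.mem_subgroupOf.1 this)
    exact Subgroup.mem_subgroupOf.1 h6
  obtain ⟨k, hk, l, hl, hkl⟩ := mem_sup_of_normal_left.1 he
  have hp' : τ⁻¹ * p * τ = p * k * l := by
    rw [mul_assoc p k l, hkl]; group
  have hbot : ∀ x, x ∈ K → x ∈ L → x = 1 := by
    intro x h1 h2
    have h3 : x ∈ K ⊓ L := ⟨h1, h2⟩
    rwa [hKL, mem_bot] at h3
  have hl2 : l * l = 1 := by
    apply hbot _ _ (L.mul_mem hl hl)
    have h1 : (p * k * l) * (p * k * l) ∈ K := by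
      rw [← hp']
      have h2 : τ⁻¹ * p * τ * (τ⁻¹ * p * τ) = τ⁻¹ * (p * p) * τ⁻¹⁻¹ := by group
      rw [h2]
      exact hKn.conj_mem _ hp2 _
    have h3 : (p * k * l) * (p * k * l) = (p * p) * (p⁻¹ * k * p⁻¹⁻¹) * k * (l * l) := by
      calc (p * k * l) * (p * k * l) = p * k * (l * p) * (k * l) := by group
        _ = p * k * (p * l) * (k * l) := by rw [hp l hl]
        _ = p * k * p * (l * k) * l := by group
        _ = p * k * p * (k * l) * l := by rw [hcomm k hk l hl]
        _ = (p * p) * (p⁻¹ * k * p⁻¹⁻¹) * k * (l * l) := by group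
    rw [h3] at h1
    exact (K.mul_mem_cancel_left (K.mul_mem (K.mul_mem hp2 (hKn.conj_mem _ hk _)) hk)).1 h1
  have hlτ : τ⁻¹ * l * τ = l := by
    have hl' : τ⁻¹ * l * τ ∈ L := by
      have := hLn.conj_mem l hl τ⁻¹
      rwa [inv_inv] at this
    have hk' : τ⁻¹ * k * τ ∈ K := by
      have := hKn.conj_mem k hk τ⁻¹
      rwa [inv_inv] at this
    have h1 : τ⁻¹ * (p * k * l) * τ = p * (k * (τ⁻¹ * k * τ)) * (l * (τ⁻¹ * l * τ)) := by
      calc τ⁻¹ * (p * k * l) * τ = (τ⁻¹ * p * τ) * (τ⁻¹ * k * τ) * (τ⁻¹ * l * τ) := by group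
        _ = p * k * l * (τ⁻¹ * k * τ) * (τ⁻¹ * l * τ) := by rw [hp']
        _ = p * k * (l * (τ⁻¹ * k * τ)) * (τ⁻¹ * l * τ) := by group
        _ = p * k * ((τ⁻¹ * k * τ) * l) * (τ⁻¹ * l * τ) := by rw [hcomm _ hk' l hl]
        _ = _ := by group
    have h2 : τ⁻¹ * (p * k * l) * τ =
        p * ((p⁻¹ * (τ * τ)⁻¹ * p⁻¹⁻¹) * (τ * τ)) := by
      rw [← hp']; group
    have h3 : l * (τ⁻¹ * l * τ) ∈ K := by
      have h4 : (k * (τ⁻¹ * k * τ)) * (l * (τ⁻¹ * l * τ)) =
          (p⁻¹ * (τ * τ)⁻¹ * p⁻¹⁻¹) * (τ * τ) := by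
        have h5 := h1.symm.trans h2
        rw [mul_assoc] at h5
        exact mul_left_cancel h5
      have h6 : (k * (τ⁻¹ * k * τ)) * (l * (τ⁻¹ * l * τ)) ∈ K := by
        rw [h4]
        exact K.mul_mem (hKn.conj_mem _ (K.inv_mem hτ2) _) hτ2
      exact (K.mul_mem_cancel_left (K.mul_mem hk hk')).1 h6
    have h7 := hbot _ h3 (L.mul_mem hl hl')
    have h8 : τ⁻¹ * l * τ = l⁻¹ := (inv_eq_of_mul_eq_one_right h7).symm
    rw [h8]
    exact inv_eq_of_mul_eq_one_right hl2
  have hfin : ∀ x : A, (∀ l ∈ L, x * l = l * x) → τ⁻¹ * x * τ = x * k → x ∈ K ⊔ L := by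
    intro x hx hxτ
    apply hP1 x hx
    have h1 : x⁻¹ * τ * x = τ * k⁻¹ := by
      have h2 : x * τ = τ * (x * k) := by rw [← hxτ]; group
      calc x⁻¹ * τ * x = x⁻¹ * (τ * (x * k)) * k⁻¹ := by group
        _ = x⁻¹ * (x * τ) * k⁻¹ := by rw [h2]
        _ = τ * k⁻¹ := by group
    rw [h1]
    exact T.mul_mem hτT (T.inv_mem (hKT hk))
  have hl1 : l ≠ 1 := by
    intro h
    apply hpE
    apply hfin p hp
    rw [hp', h, mul_one]
  obtain ⟨v, hv, hvτ⟩ : ∃ v ∈ L, τ⁻¹ * v * τ ≠ v := by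
    by_contra hcon
    push Not at hcon
    apply hτC
    rw [hmemC]
    intro x hx
    have h1 := hcon x hx
    calc τ * x = τ * (τ⁻¹ * x * τ) := by rw [h1]
      _ = x * τ := by group
  have hv' : τ⁻¹ * v * τ ∈ L := by
    have := hLn.conj_mem v hv τ⁻¹
    rwa [inv_inv] at this
  have hvl : v ≠ l := by
    rintro rfl
    exact hvτ hlτ
  have hv1 : v ≠ 1 := by
    rintro rfl
    apply hvτ
    group
  have hv'1 : τ⁻¹ * v * τ ≠ 1 := by
    intro h
    apply hv1
    calc v = τ * (τ⁻¹ * v * τ) * τ⁻¹ := by group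
      _ = 1 := by rw [h]; group
  have hv'l : τ⁻¹ * v * τ ≠ l := by
    intro h
    apply hvl
    have h1 : τ⁻¹ * v * τ = τ⁻¹ * l * τ := by rw [h, hlτ]
    calc v = τ * (τ⁻¹ * v * τ) * τ⁻¹ := by group
      _ = τ * (τ⁻¹ * l * τ) * τ⁻¹ := by rw [h1]
      _ = l := by group
  have hv'eq : τ⁻¹ * v * τ = v * l := by
    by_contra hne
    have := Fintype.ofFinite L
    have hlinv : l⁻¹ = l := inv_eq_of_mul_eq_one_right hl2
    have n1 : v * l ≠ 1 := fun h => hvl (by
      have : v = l⁻¹ := eq_inv_of_mul_eq_one_left h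
      rw [this, hlinv])
    have n2 : v * l ≠ l := fun h => hv1 (by simpa using h)
    have n3 : v * l ≠ v := fun h => hl1 (by simpa using h)
    let S : Finset L := {1, ⟨l, hl⟩, ⟨v, hv⟩, ⟨v * l, L.mul_mem hv hl⟩, ⟨_, hv'⟩}
    have hS : S.card = 5 := by
      have e1 : ∀ (a b : A) (ha : a ∈ L) (hb : b ∈ L), a ≠ b → (⟨a, ha⟩ : L) ≠ ⟨b, hb⟩ :=
        fun a b _ _ h h' => h (congrArg Subtype.val h')
      rw [Finset.card_insert_of_notMem, Finset.card_insert_of_notMem,
        Finset.card_insert_of_notMem, Finset.card_insert_of_notMem, Finset.card_singleton]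
      · simp only [Finset.mem_singleton]
        exact e1 _ _ _ _ (fun h => hne h.symm)
      · simp only [Finset.mem_insert, Finset.mem_singleton, not_or]
        exact ⟨e1 _ _ _ _ (Ne.symm n3), e1 _ _ _ _ (Ne.symm hvτ)⟩
      · simp only [Finset.mem_insert, Finset.mem_singleton, not_or]
        exact ⟨e1 _ _ _ _ (Ne.symm hvl), e1 _ _ _ _ (Ne.symm n2), e1 _ _ _ _ (Ne.symm hv'l)⟩
      · simp only [Finset.mem_insert, Finset.mem_singleton, not_or]
        exact ⟨e1 _ _ L.one_mem _ (Ne.symm hl1), e1 _ _ L.one_mem _ (Ne.symm hv1),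
          e1 _ _ L.one_mem _ (Ne.symm n1), e1 _ _ L.one_mem _ (Ne.symm hv'1)⟩
    have h1 := Finset.card_le_univ S
    rw [hS, ← Nat.card_eq_fintype_card, hL] at h1
    omega
  apply hpE
  have hpv : p * v ∈ K ⊔ L := by
    apply hfin
    · intro x hx
      rw [mul_assoc, hLab v hv x hx, ← mul_assoc, hp x hx, mul_assoc]
    · calc τ⁻¹ * (p * v) * τ = (τ⁻¹ * p * τ) * (τ⁻¹ * v * τ) := by group
        _ = p * k * l * (v * l) := by rw [hp', hv'eq]
        _ = p * k * (l * v) * l := by group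
        _ = p * k * (v * l) * l := by rw [hLab l hl v hv]
        _ = p * (k * v) * (l * l) := by group
        _ = p * v * k := by rw [hcomm k hk v hv, hl2]; group
  have h1 : p = (p * v) * v⁻¹ := by group
  rw [h1]
  exact Subgroup.mul_mem _ hpv ((le_sup_right : L ≤ K ⊔ L) (L.inv_mem hv))

end

end Cfsg.Agent.M22.TwoGroupRegular
end

-- part: M22/SixFourFix
section
/-!
# The case `(e, |K|) = (6, 4)`: 2-elements fix at most two of the eight Sylow 7-subgroups
-/

set_option autoImplicit false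

namespace Cfsg.Agent.M22.SixFourFix

open Cfsg Subgroup MulAction
open Cfsg.Agent.SmallSimple Cfsg.Agent.SmallSimple.PrimeLocal
open Cfsg.Agent.M22.SevenEight

universe u

variable {G : Type u} [Group G] [Finite G]

/-- A 2-element of `N(P)` outside `K` whose square is in `K` inverts `P`. -/
theorem inverts [Fact (Nat.Prime 7)] (P : Sylow 7 G) (hP : Nat.card P = 7)
    {e : ℕ} {K : Subgroup G} (hloc : IsLocal 7 P e K) {y : G}
    (hyN : y ∈ normalizer (P : Set G)) (hyK : y ∉ K) (hy2 : y * y ∈ K)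
    (hy7 : ¬ 7 ∣ orderOf y) : ∀ z ∈ (P : Subgroup G), y * z * y⁻¹ = z⁻¹ := by
  intro z hz
  have hP' : Nat.card (P : Subgroup G) = 7 := hP
  have hab := comm_of_card_prime (by norm_num : Nat.Prime 7) (P : Subgroup G) hP'
  have hz' : y * z * y⁻¹ ∈ (P : Subgroup G) := (mem_normalizer_iff.1 hyN z).1 hz
  have hw : z * (y * z * y⁻¹) ∈ (P : Subgroup G) := mul_mem hz hz'
  have hfixw : y * (z * (y * z * y⁻¹)) * y⁻¹ = z * (y * z * y⁻¹) := by
    have h1 : (y * y) * z = z * (y * y) := hloc.comm _ hy2 z hz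
    calc y * (z * (y * z * y⁻¹)) * y⁻¹ = (y * z * y⁻¹) * ((y * y) * z) * (y * y)⁻¹ := by group
      _ = (y * z * y⁻¹) * (z * (y * y)) * (y * y)⁻¹ := by rw [h1]
      _ = (y * z * y⁻¹) * z := by group
      _ = z * (y * z * y⁻¹) := hab _ hz' _ hz
  by_cases hw1 : z * (y * z * y⁻¹) = 1
  · exact (inv_eq_of_mul_eq_one_right hw1).symm
  · exfalso
    apply hyK
    apply hloc.mem_of_coprime y _ hy7
    rw [mem_centralizer_iff]
    intro v hv
    have h5 : (⟨v, hv⟩ : (P : Subgroup G)) ∈ zpowers (⟨_, hw⟩ : (P : Subgroup G)) :=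
      mem_zpowers_of_prime_card hP' (by simpa [Subtype.ext_iff] using hw1)
    obtain ⟨k, hk⟩ := mem_zpowers_iff.1 h5
    have h6 : (z * (y * z * y⁻¹)) ^ k = v := by simpa [Subtype.ext_iff] using hk
    have h7 : Commute (z * (y * z * y⁻¹)) y := by
      change z * (y * z * y⁻¹) * y = y * (z * (y * z * y⁻¹))
      calc z * (y * z * y⁻¹) * y = (y * (z * (y * z * y⁻¹)) * y⁻¹) * y := by rw [hfixw]
        _ = y * (z * (y * z * y⁻¹)) := by group
    rw [← h6]
    exact (h7.zpow_left k).eq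

/-- Elements of `T₂` outside `K` fix at most two cosets. -/
theorem card_fixedBy_le [Fact (Nat.Prime 7)] (P : Sylow 7 G) (hP : Nat.card P = 7)
    {e : ℕ} {K : Subgroup G} (hloc : IsLocal 7 P e K) (hK : Nat.card K = 4)
    (h8 : 8 * Nat.card (normalizer (K : Set G) ⊓ normalizer (P : Set G) : Subgroup G) =
      Nat.card (normalizer (K : Set G)))
    {T₂ : Subgroup G} (hT₂ : T₂ ≤ normalizer (K : Set G)) (hcard : Nat.card T₂ = 64)
    (hKT₂ : K ≤ T₂)
    (hT : Nat.card ((normalizer (P : Set G)).subgroupOf T₂) = 8) (x : T₂)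
    (hx : x ∉ K.subgroupOf T₂) :
    Nat.card (fixedBy (T₂ ⧸ (normalizer (P : Set G)).subgroupOf T₂) x) ≤ 2 := by
  classical
  by_contra hcon
  push Not at hcon
  have hKN : K ≤ normalizer (P : Set G) := hloc.le_centralizer.trans
    (SylowPrimeCount.centralizer_le_normalizer' (P : Subgroup G))
  have hPM : (P : Subgroup G) ≤ normalizer (K : Set G) :=
    le_trans le_normalizer hloc.normalizer_le
  have := Fintype.ofFinite (fixedBy (T₂ ⧸ (normalizer (P : Set G)).subgroupOf T₂) x)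
  rw [Nat.card_eq_fintype_card, ← Finset.card_univ] at hcon
  obtain ⟨⟨ω₀, h₀⟩, ⟨ω₁, h₁⟩, ⟨ω₂, h₂⟩, -, -, -, h01, h02, h12⟩ := Finset.two_lt_card_iff.1 hcon
  rw [mem_fixedBy] at h₀ h₁ h₂
  obtain ⟨g₀, rfl⟩ := QuotientGroup.mk_surjective ω₀
  obtain ⟨g₁, rfl⟩ := QuotientGroup.mk_surjective ω₁
  obtain ⟨g₂, rfl⟩ := QuotientGroup.mk_surjective ω₂
  have conv : ∀ g : T₂, x • (g : T₂ ⧸ (normalizer (P : Set G)).subgroupOf T₂) = g →
      (g : G)⁻¹ * x * g ∈ normalizer (P : Set G) := by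
    intro g hg
    have h1 : ((x * g : T₂) : T₂ ⧸ (normalizer (P : Set G)).subgroupOf T₂) = g := hg
    rw [eq_comm, QuotientGroup.eq] at h1
    have h2 := Subgroup.mem_subgroupOf.1 h1
    have h3 : (g : G)⁻¹ * (x * g) ∈ normalizer (P : Set G) := h2
    rwa [← mul_assoc] at h3
  have hne : ∀ g h : T₂, (g : T₂ ⧸ (normalizer (P : Set G)).subgroupOf T₂) ≠ h →
      (g : G)⁻¹ * h ∉ normalizer (P : Set G) := by
    intro g h hgh h1
    apply hgh
    rw [QuotientGroup.eq]
    exact Subgroup.mem_subgroupOf.2 h1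
  have n01 := hne g₀ g₁ (fun h => h01 (Subtype.ext h))
  have n02 := hne g₀ g₂ (fun h => h02 (Subtype.ext h))
  have n12 := hne g₁ g₂ (fun h => h12 (Subtype.ext h))
  have c0 := conv g₀ h₀
  have c1 := conv g₁ h₁
  have c2 := conv g₂ h₂
  -- normalise to the base point
  set y : G := (g₀ : G)⁻¹ * x * g₀ with hy
  set a : G := (g₀ : G)⁻¹ * g₁ with ha
  set b : G := (g₀ : G)⁻¹ * g₂ with hb
  have hyT : y ∈ T₂ := mul_mem (mul_mem (inv_mem g₀.2) x.2) g₀.2
  have haT : a ∈ T₂ := mul_mem (inv_mem g₀.2) g₁.2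
  have hbT : b ∈ T₂ := mul_mem (inv_mem g₀.2) g₂.2
  have hya : a⁻¹ * y * a ∈ normalizer (P : Set G) := by
    have : a⁻¹ * y * a = (g₁ : G)⁻¹ * x * g₁ := by rw [ha, hy]; group
    rw [this]; exact c1
  have hyb : b⁻¹ * y * b ∈ normalizer (P : Set G) := by
    have : b⁻¹ * y * b = (g₂ : G)⁻¹ * x * g₂ := by rw [hb, hy]; group
    rw [this]; exact c2
  have hab : a⁻¹ * b ∉ normalizer (P : Set G) := by
    have : a⁻¹ * b = (g₁ : G)⁻¹ * g₂ := by rw [ha, hb]; group
    rw [this]; exact n12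
  have hyK : y ∉ K := by
    intro h
    apply hx
    rw [Subgroup.mem_subgroupOf]
    have h1 : (x : G) = g₀ * y * (g₀ : G)⁻¹ := by rw [hy]; group
    rw [h1]
    exact (mem_normalizer_iff.1 (hT₂ g₀.2) y).1 h
  -- `y²∈ K`
  have hy2 : y * y ∈ K := by
    let T : Subgroup G := T₂ ⊓ normalizer (P : Set G)
    have hT8 : Nat.card T = 8 := by
      rw [← hT]
      have h3 : (normalizer (P : Set G)).subgroupOf T₂ = T.subgroupOf T₂ := by
        rw [Subgroup.inf_subgroupOf_left]
      rw [h3]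
      exact (Nat.card_congr (subgroupOfEquivOfLe inf_le_left).toEquiv).symm
    exact SevenTools.sq_mem_of_card (T := K) (R := T) (le_inf hKT₂ hKN) (by rw [hT8, hK])
      ⟨hyT, c0⟩
  have hy7 : ¬ 7 ∣ orderOf y := by
    intro h
    have h1 : orderOf (⟨y, hyT⟩ : T₂) ∣ 64 := hcard ▸ orderOf_dvd_natCard _
    rw [Subgroup.orderOf_mk] at h1
    have := h.trans h1
    revert this; decide
  have hinv := inverts P hP hloc c0 hyK hy2 hy7
  obtain ⟨z, hz, hzn⟩ := exists_trans P hP hPM h8 (hT₂ haT) (hT₂ hbT) n01 n02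
  -- work with cosets
  let N := normalizer (P : Set G)
  let ωa : G ⧸ N := (a : G)
  let ωb : G ⧸ N := (b : G)
  have e1 : y • ωa = ωa := by
    change ((y * a : G) : G ⧸ N) = (a : G)
    rw [eq_comm, QuotientGroup.eq, ← mul_assoc]; exact hya
  have e2 : y • ωb = ωb := by
    change ((y * b : G) : G ⧸ N) = (b : G)
    rw [eq_comm, QuotientGroup.eq, ← mul_assoc]; exact hyb
  have e3 : z • ωa = ωb := by
    change ((z * a : G) : G ⧸ N) = (b : G)
    rw [eq_comm, QuotientGroup.eq, ← mul_assoc]; exact hzn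
  have e4 : z⁻¹ • ωa = z • ωa := by
    have h1 : y * z = z⁻¹ * y := by
      have := hinv z hz
      calc y * z = (y * z * y⁻¹) * y := by group
        _ = z⁻¹ * y := by rw [this]
    calc z⁻¹ • ωa = z⁻¹ • y • ωa := by rw [e1]
      _ = (z⁻¹ * y) • ωa := (mul_smul _ _ _).symm
      _ = (y * z) • ωa := by rw [h1]
      _ = y • z • ωa := mul_smul _ _ _
      _ = z • ωa := by rw [e3, e2]
  have e5 : (z * z) • ωa = ωa := by
    rw [mul_smul, ← e4, smul_inv_smul]
  have hzz : z * z = 1 := by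
    by_contra hne'
    apply n01
    refine mem_normalizer_of_conj P hP (z := z * z) (mul_mem hz hz) hne' ?_
    have h5 : ((z * z * a : G) : G ⧸ N) = (a : G) := e5
    rw [eq_comm, QuotientGroup.eq, ← mul_assoc] at h5
    exact h5
  have hz1 : z = 1 := by
    have h6 : orderOf z ∣ 7 := orderOf_dvd_of_pow_eq_one (pow_seven P hP hz)
    have h7 : orderOf z ∣ 2 := orderOf_dvd_of_pow_eq_one (by rw [pow_two]; exact hzz)
    exact orderOf_eq_one_iff.1 (Nat.eq_one_of_dvd_coprimes (by norm_num) h6 h7)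
  rw [hz1, one_smul] at e3
  apply hab
  have h5 : ((a : G) : G ⧸ N) = (b : G) := e3
  exact QuotientGroup.eq.1 h5

end Cfsg.Agent.M22.SixFourFix
end

-- part: M22/SixFourCore
section
/-!
# The case `(e, |K|) = (6, 4)`, `|N(K)| = 1344`
-/

set_option autoImplicit false

namespace Cfsg.Agent.M22.SixFourCore

open Cfsg Subgroup MulAction
open Cfsg.Agent.SmallSimple Cfsg.Agent.SmallSimple.PrimeLocal
open Cfsg.Agent.SmallSimple.Simple168Klein
open Cfsg.Agent.M22.SevenEight Cfsg.Agent.M22.SevenTools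

universe u

variable {G : Type u} [Group G] [Finite G]

theorem not_dvd_three {n : ℕ} (h1 : n % 7 = 1) (h2 : 16 ∣ n) (h3 : n ∣ 240) : False := by
  have h4 := Nat.le_of_dvd (by norm_num) h3
  obtain ⟨m, rfl⟩ := h2
  have : m ≤ 15 := by omega
  interval_cases m <;> omega

theorem not_dvd_one {n : ℕ} (h1 : n % 7 = 1) (h2 : 16 ∣ n) (h3 : n ∣ 720) : False := by
  have h4 := Nat.le_of_dvd (by norm_num) h3
  obtain ⟨m, rfl⟩ := h2
  have : m ≤ 45 := by omega
  interval_cases m <;> omega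

/-- Subgroups of order 8 of `N(P)`. -/
theorem exists_T [Fact (Nat.Prime 7)] (P : Sylow 7 G) {K : Subgroup G}
    (hloc : IsLocal 7 P 6 K) (hK : Nat.card K = 4) :
    ∃ T : Subgroup G, T ≤ normalizer (P : Set G) ∧ Nat.card T = 8 ∧ K ≤ T := by
  have : Fact (Nat.Prime 2) := ⟨Nat.prime_two⟩
  have hKN : K ≤ normalizer (P : Set G) := hloc.le_centralizer.trans
    (SylowPrimeCount.centralizer_le_normalizer' (P : Subgroup G))
  have hN : Nat.card (normalizer (P : Set G)) = 168 := by rw [hloc.card_normalizer, hK]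
  obtain ⟨T, hT1, hT2⟩ := Sylow.exists_subgroup_card_pow_succ (p := 2) (n := 2)
    (G := normalizer (P : Set G)) (H := K.subgroupOf (normalizer (P : Set G)))
    (by rw [hN]; norm_num)
    (by rw [Nat.card_congr (subgroupOfEquivOfLe hKN).toEquiv, hK]; norm_num)
  refine ⟨T.map (normalizer (P : Set G)).subtype, ?_, ?_, ?_⟩
  · rintro _ ⟨x, -, rfl⟩
    exact x.2
  · rw [Nat.card_congr (T.equivMapOfInjective _ (subtype_injective _)).symm.toEquiv, hT1]
    norm_num
  · intro k hk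
    exact ⟨⟨k, hKN hk⟩, hT2 (Subgroup.mem_subgroupOf.2 hk), rfl⟩

/-- Subgroups of order 64 of `N(K)`. -/
theorem exists_T₂ {K T : Subgroup G} (hM : Nat.card (normalizer (K : Set G)) = 1344)
    (hTM : T ≤ normalizer (K : Set G)) (hT : Nat.card T = 8) :
    ∃ T₂ : Subgroup G, T ≤ T₂ ∧ T₂ ≤ normalizer (K : Set G) ∧ Nat.card T₂ = 64 := by
  have : Fact (Nat.Prime 2) := ⟨Nat.prime_two⟩
  obtain ⟨T₂, h1, h2⟩ := Sylow.exists_subgroup_card_pow_prime_le 2
    (G := normalizer (K : Set G)) (n := 3) (m := 6) (by rw [hM]; norm_num)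
    (T.subgroupOf (normalizer (K : Set G)))
    (by rw [Nat.card_congr (subgroupOfEquivOfLe hTM).toEquiv, hT]; norm_num) (by norm_num)
  refine ⟨T₂.map (normalizer (K : Set G)).subtype, ?_, ?_, ?_⟩
  · intro t ht
    exact ⟨⟨t, hTM ht⟩, h2 (Subgroup.mem_subgroupOf.2 ht), rfl⟩
  · rintro _ ⟨x, -, rfl⟩
    exact x.2
  · rw [Nat.card_congr (T₂.equivMapOfInjective _ (subtype_injective _)).symm.toEquiv, h1]
    norm_num

theorem core [IsSimpleGroup G] (hcard : Nat.card G = 443520) [Fact (Nat.Prime 7)]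
    [Fact (Nat.Prime 11)] (h11 : ∀ Q : Sylow 11 G, centralizer (Q : Set G) = (Q : Subgroup G))
    (P : Sylow 7 G) {K : Subgroup G} (hloc : IsLocal 7 P 6 K) (hK : Nat.card K = 4)
    (hM : Nat.card (normalizer (K : Set G)) = 1344)
    (hB : ∀ T₂ : Subgroup G, T₂ ≤ normalizer (K : Set G) → Nat.card T₂ = 64 →
      ¬ T₂ ≤ centralizer (K : Set G) →
      Nat.card (T₂ ⊓ centralizer (K : Set G) : Subgroup G) = 32 ∧
      ((∀ d ∈ T₂ ⊓ centralizer (K : Set G), d * d ∈ K) ∨
        ∀ (E : Subgroup G) (a : G), K ≤ E → E ≤ T₂ ⊓ centralizer (K : Set G) →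
          Nat.card E = 16 → a ∈ T₂ ⊓ centralizer (K : Set G) → a ∉ K → a * a = 1 →
          ∃ h ∈ centralizer (K : Set G), h * a * h⁻¹ ∈ T₂ ∧ h * a * h⁻¹ ∉ E)) : False := by
  classical
  have : Fact (Nat.Prime 2) := ⟨Nat.prime_two⟩
  have hP : Nat.card P = 7 := Degrees.card_sylow_eq (m := 63360) (by rw [hcard]) (by norm_num) P
  have hP' : Nat.card (P : Subgroup G) = 7 := hP
  have hKN : K ≤ normalizer (P : Set G) := hloc.le_centralizer.trans
    (SylowPrimeCount.centralizer_le_normalizer' (P : Subgroup G))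
  have hN : Nat.card (normalizer (P : Set G)) = 168 := by rw [hloc.card_normalizer, hK]
  have hNM := hloc.normalizer_le
  have hPM : (P : Subgroup G) ≤ normalizer (K : Set G) := le_trans le_normalizer hNM
  have h8 : 8 * Nat.card (normalizer (K : Set G) ⊓ normalizer (P : Set G) : Subgroup G) =
      Nat.card (normalizer (K : Set G)) := by
    rw [inf_eq_right.2 hNM, hN, hM]
  have hK2 : IsPGroup 2 K := IsPGroup.of_card (n := 2) (by rw [hK]; norm_num)
  have hKne : K ≠ ⊥ := by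
    rintro rfl
    rw [Subgroup.card_bot] at hK
    norm_num at hK
  obtain ⟨T, hTN, hT8, hKT⟩ := exists_T P hloc hK
  obtain ⟨T₂, hTT₂, hT₂M, hT₂⟩ := exists_T₂ hM (hTN.trans hNM) hT8
  have hKT₂ : K ≤ T₂ := hKT.trans hTT₂
  -- `T = T₂ ∩ N(P)`
  have hTeq : T₂ ⊓ normalizer (P : Set G) = T := by
    symm
    apply Subgroup.eq_of_le_of_card_ge (le_inf hTT₂ hTN)
    have h1 : Nat.card (T₂ ⊓ normalizer (P : Set G) : Subgroup G) ∣ 64 :=
      hT₂ ▸ card_dvd_of_le inf_le_left
    have h2 : Nat.card (T₂ ⊓ normalizer (P : Set G) : Subgroup G) ∣ 168 :=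
      hN ▸ card_dvd_of_le inf_le_right
    have h3 := Nat.dvd_gcd h1 h2
    rw [hT8]
    exact Nat.le_of_dvd (by norm_num) (by simpa using h3)
  have hT' : Nat.card ((normalizer (P : Set G)).subgroupOf T₂) = 8 := by
    have h3 : (normalizer (P : Set G)).subgroupOf T₂ = T.subgroupOf T₂ := by
      rw [← hTeq, Subgroup.inf_subgroupOf_left]
    rw [h3, Nat.card_congr (subgroupOfEquivOfLe hTT₂).toEquiv, hT8]
  have hfix := SixFourFix.card_fixedBy_le P hP hloc hK h8 hT₂M hT₂ hKT₂ hT'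
  -- growth
  obtain ⟨R, hTR, hR, hRT⟩ := exists_growth (m := 6) (T := T₂) (by rw [hT₂]; norm_num)
    (by rw [hcard]; norm_num)
  have hR128 : Nat.card R = 128 := by rw [hR, hT₂]
  obtain ⟨s, hsR, hsT⟩ : ∃ s ∈ R, s ∉ T₂ := by
    by_contra hcon
    push Not at hcon
    have := Subgroup.card_le_of_le (show R ≤ T₂ from hcon)
    omega
  obtain ⟨hL1, hL2, hL3, hL4⟩ := swap_data hTR hR hRT hKT₂ hT₂M hsR
  set L : Subgroup G := K.map (MulAut.conj s).toMonoidHom with hLdef
  have hLcard : Nat.card L = 4 := by rw [hLdef, card_map_conj, hK]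
  have hRD := le_normalizer_inf hTR hR hRT hKT₂ hT₂M hsR hsT
  rw [← hLdef] at hRD
  -- `K ∩ L = 1`
  have hKL : K ⊓ L = ⊥ := by
    by_contra hD
    have hD2 : IsPGroup 2 (K ⊓ L : Subgroup G) := hK2.to_le inf_le_left
    have hPD : (P : Subgroup G) ≤ normalizer ((K ⊓ L : Subgroup G) : Set G) := by
      intro z hz
      rw [mem_normalizer_iff]
      intro x
      constructor
      · intro hx
        have h1 : x * z = z * x := hloc.comm x hx.1 z hz
        have h2 : z * x * z⁻¹ = x := by rw [← h1]; group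
        rw [h2]; exact hx
      · intro hx
        have h1 := hloc.comm _ hx.1 z hz
        have h2 : x = z * x * z⁻¹ := by
          calc x = z⁻¹ * (z * x * z⁻¹ * z) := by group
            _ = z⁻¹ * (z * (z * x * z⁻¹)) := by rw [h1]
            _ = z * x * z⁻¹ := by group
        rw [h2]; exact hx
    have hne11 := not_eleven_dvd hcard h11 (K ⊓ L) hD hD2
    obtain ⟨n, hn1, hn2⟩ := exists_count P _ hPD
    have hcardN : Nat.card (normalizer ((K ⊓ L : Subgroup G) : Set G)) ∣ 443520 :=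
      hcard ▸ Subgroup.card_subgroup_dvd_card _
    have h128 : 128 ∣ Nat.card (normalizer ((K ⊓ L : Subgroup G) : Set G)) :=
      hR128 ▸ card_dvd_of_le hRD
    have h40320 : Nat.card (normalizer ((K ⊓ L : Subgroup G) : Set G)) ∣ 40320 := by
      have h1 : Nat.Coprime (Nat.card (normalizer ((K ⊓ L : Subgroup G) : Set G))) 11 :=
        ((Nat.Prime.coprime_iff_not_dvd (by norm_num)).2 hne11).symm
      exact h1.dvd_of_dvd_mul_left (by simpa using hcardN : _ ∣ 11 * 40320)
    have hi1 : 56 ∣ Nat.card (normalizer ((K ⊓ L : Subgroup G) : Set G) ⊓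
        normalizer (P : Set G) : Subgroup G) := by
      have h1 : 8 ∣ Nat.card (normalizer ((K ⊓ L : Subgroup G) : Set G) ⊓
        normalizer (P : Set G) : Subgroup G) :=
        hT8 ▸ card_dvd_of_le (le_inf ((hTT₂.trans hTR).trans hRD) hTN)
      have h2 : 7 ∣ Nat.card (normalizer ((K ⊓ L : Subgroup G) : Set G) ⊓
        normalizer (P : Set G) : Subgroup G) := by
        have h3 := card_dvd_of_le (le_inf hPD (le_normalizer (H := (P : Subgroup G))))
        rwa [hP'] at h3
      exact Nat.Coprime.mul_dvd_of_dvd_of_dvd (by norm_num : Nat.Coprime 8 7) h1 h2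
    have hi2 : Nat.card (normalizer ((K ⊓ L : Subgroup G) : Set G) ⊓
        normalizer (P : Set G) : Subgroup G) ∣ 168 := hN ▸ card_dvd_of_le inf_le_right
    generalize Nat.card (normalizer ((K ⊓ L : Subgroup G) : Set G) ⊓
        normalizer (P : Set G) : Subgroup G) = i at *
    generalize Nat.card (normalizer ((K ⊓ L : Subgroup G) : Set G)) = c at *
    obtain ⟨j, rfl⟩ := hi1
    have hj : j ∣ 3 := by
      obtain ⟨q, hq⟩ := hi2
      exact ⟨q, by
        have : 56 * 3 = 56 * (j * q) := by rw [← mul_assoc]; omega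
        exact Nat.eq_of_mul_eq_mul_left (by norm_num) this⟩
    rcases (Nat.dvd_prime Nat.prime_three).1 hj with rfl | rfl
    · refine not_dvd_one hn1 ?_ ?_
      · obtain ⟨q, hq⟩ := h128
        have h1 : 16 ∣ 7 * n := ⟨q, by omega⟩
        exact (Nat.Coprime.dvd_mul_left (by norm_num)).1 h1
      · obtain ⟨q, hq⟩ := h40320
        exact ⟨q, by
          have : 56 * 720 = 56 * (n * q) := by
            rw [show 56 * 720 = 40320 by norm_num, hq, ← hn2]; ring
          exact Nat.eq_of_mul_eq_mul_left (by norm_num) this⟩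
    · refine not_dvd_three hn1 ?_ ?_
      · obtain ⟨q, hq⟩ := h128
        have h1 : 16 ∣ 21 * n := ⟨q, by omega⟩
        exact (Nat.Coprime.dvd_mul_left (by norm_num)).1 h1
      · obtain ⟨q, hq⟩ := h40320
        exact ⟨q, by
          have : 168 * 240 = 168 * (n * q) := by
            rw [show 168 * 240 = 40320 by norm_num, hq, ← hn2]; ring
          exact Nat.eq_of_mul_eq_mul_left (by norm_num) this⟩
  -- the abstract 2-group
  have hK'n : (K.subgroupOf T₂).Normal := (normal_subgroupOf_iff_le_normalizer hKT₂).2 hT₂M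
  have hL'n : (L.subgroupOf T₂).Normal := (normal_subgroupOf_iff_le_normalizer hL1).2 hL2
  have hK'c : Nat.card (K.subgroupOf T₂) = 4 := by
    rw [Nat.card_congr (subgroupOfEquivOfLe hKT₂).toEquiv, hK]
  have hL'c : Nat.card (L.subgroupOf T₂) = 4 := by
    rw [Nat.card_congr (subgroupOfEquivOfLe hL1).toEquiv, hLcard]
  have hKL' : K.subgroupOf T₂ ⊓ L.subgroupOf T₂ = ⊥ := by
    rw [eq_bot_iff]
    rintro ⟨x, hx⟩ ⟨h1, h2⟩
    have h3 : x ∈ K ⊓ L := ⟨Subgroup.mem_subgroupOf.1 h1, Subgroup.mem_subgroupOf.1 h2⟩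
    rw [hKL, mem_bot] at h3
    exact Subtype.ext h3
  have hKT' : K.subgroupOf T₂ ≤ (normalizer (P : Set G)).subgroupOf T₂ :=
    fun x hx => Subgroup.mem_subgroupOf.2 (hKN (Subgroup.mem_subgroupOf.1 hx))
  have hcomm : ∀ k ∈ K, ∀ l ∈ L, k * l = l * k := by
    intro k hk l hl
    have h1 := (Subgroup.commute_of_normal_of_disjoint _ _ hK'n hL'n (disjoint_iff.2 hKL')
      (⟨k, hKT₂ hk⟩ : T₂) ⟨l, hL1 hl⟩ (Subgroup.mem_subgroupOf.2 hk)
      (Subgroup.mem_subgroupOf.2 hl)).eq
    exact congrArg Subtype.val h1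
  have hmain : ∀ p ∈ T₂, (∀ l ∈ L, p * l = l * p) → p * p ∈ K → p ∈ K ⊔ L := by
    intro p hpT hpL hp2
    have h1 := TwoGroupRegular.mem_sup_of_sq_mem (A := T₂) (p := (⟨p, hpT⟩ : T₂)) hT₂ hT' hKT'
      hK'c hK'n hL'c hL'n hKL' hfix (by
        rintro ⟨l, hl⟩ hl'
        exact Subtype.ext (hpL l (Subgroup.mem_subgroupOf.1 hl')))
      (Subgroup.mem_subgroupOf.2 hp2)
    obtain ⟨y, hy, z, hz, hyz⟩ := mem_sup_of_normal_left.1 h1
    have h2 : p = (y : G) * z := (congrArg Subtype.val hyz).symm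
    rw [h2]
    exact mul_mem ((le_sup_left : K ≤ K ⊔ L) (Subgroup.mem_subgroupOf.1 hy))
      ((le_sup_right : L ≤ K ⊔ L) (Subgroup.mem_subgroupOf.1 hz))
  -- `T₂` does not centralise `K`
  have hnc : ¬ T₂ ≤ centralizer (K : Set G) := by
    intro hc
    obtain ⟨τ, hτT, hτK⟩ : ∃ τ ∈ T, τ ∉ K := by
      by_contra hcon
      push Not at hcon
      have := Subgroup.card_le_of_le (show T ≤ K from hcon)
      omega
    apply hτK
    have h1 := TwoGroupRegular.mem_of_centralizer (A := T₂) (T := (normalizer (P : Set G)).subgroupOf T₂)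
      (K := K.subgroupOf T₂) (L := L.subgroupOf T₂) (x := (⟨τ, hTT₂ hτT⟩ : T₂))
      hT₂ hT' hL'c hL'n hKL' hfix (Subgroup.mem_subgroupOf.2 (hTN hτT)) (by
        rintro ⟨l, hl⟩ hl'
        apply Subtype.ext
        change τ * l = l * τ
        have h2 : l ∈ L := Subgroup.mem_subgroupOf.1 hl'
        rw [hLdef, mem_conj_iff] at h2
        have h3 : s⁻¹ * τ * s ∈ T₂ := by
          have := (mem_normalizer_iff.1 (inv_mem (hRT hsR)) τ).1 (hTT₂ hτT)
          rwa [inv_inv] at this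
        have h4 := mem_centralizer_iff.1 (hc h3) _ h2
        calc τ * l = s * ((s⁻¹ * τ * s) * (s⁻¹ * l * s)) * s⁻¹ := by group
          _ = s * ((s⁻¹ * l * s) * (s⁻¹ * τ * s)) * s⁻¹ := by rw [h4]
          _ = l * τ := by group)
    exact Subgroup.mem_subgroupOf.1 h1
  obtain ⟨h32, hB'⟩ := hB T₂ hT₂M hT₂ hnc
  -- `E = K L` has order 16
  have hKn' : L ≤ normalizer (K : Set G) := hL1.trans hT₂M
  have hE16 : Nat.card (K ⊔ L : Subgroup G) = 16 := by
    have hle : K ⊔ L ≤ T₂ := sup_le hKT₂ hL1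
    have h1 : (K ⊔ L).subgroupOf T₂ = K.subgroupOf T₂ ⊔ L.subgroupOf T₂ :=
      Subgroup.subgroupOf_sup hKT₂ hL1
    have h2 : Nat.card (K.subgroupOf T₂ ⊔ L.subgroupOf T₂ : Subgroup T₂) = 16 := by
      have h1 : (K.subgroupOf T₂).relIndex (K.subgroupOf T₂ ⊔ L.subgroupOf T₂) =
          (K.subgroupOf T₂).relIndex (L.subgroupOf T₂) := relIndex_sup_left _ _
      have h2 : (K.subgroupOf T₂).relIndex (L.subgroupOf T₂) = 4 := by
        rw [← Subgroup.inf_relIndex_right, hKL', relIndex_bot_left, hL'c]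
      have h3 := relIndex_mul_relIndex ⊥ (K.subgroupOf T₂)
        (K.subgroupOf T₂ ⊔ L.subgroupOf T₂) bot_le le_sup_left
      rw [relIndex_bot_left, relIndex_bot_left, hK'c, h1, h2] at h3
      exact h3.symm
    rw [← h1, Nat.card_congr (subgroupOfEquivOfLe hle).toEquiv] at h2
    exact h2
  have hEC : K ⊔ L ≤ T₂ ⊓ centralizer (K : Set G) := by
    have hKab : ∀ a ∈ K, ∀ b ∈ K, a * b = b * a := by
      intro a ha b hb
      have h1 := IsPGroup.isMulCommutative_of_card_eq_prime_sq (p := 2) (G := K)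
        (by rw [hK]; norm_num)
      exact congrArg Subtype.val (h1.is_comm.comm (⟨a, ha⟩ : K) ⟨b, hb⟩)
    refine sup_le (le_inf hKT₂ ?_) (le_inf hL1 ?_)
    · intro a ha
      rw [mem_centralizer_iff]
      exact fun b hb => hKab b hb a ha
    · intro l hl
      rw [mem_centralizer_iff]
      exact fun k hk => hcomm k hk l hl
  rcases hB' with hB' | hB'
  · -- all squares in `K`
    have hle : T₂ ⊓ centralizer (K : Set G) ≤ K ⊔ L := by
      intro d hd
      apply hmain d hd.1 _ (hB' d hd)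
      intro l hl
      have hl' : l ∈ T₂ ⊓ centralizer (K : Set G) := hEC ((le_sup_right : L ≤ K ⊔ L) hl)
      have h1 : d * l * d⁻¹ * l⁻¹ ∈ K := by
        have e1 : d * l * d⁻¹ * l⁻¹ = ((d * l) * (d * l)) * (l⁻¹ * (d * d)⁻¹ * l⁻¹⁻¹) *
            (l * l)⁻¹ := by group
        rw [e1]
        refine mul_mem (mul_mem (hB' _ (mul_mem hd hl')) ?_) (inv_mem (hB' _ hl'))
        exact (mem_normalizer_iff.1 (hT₂M (inv_mem hl'.1)) _).1 (inv_mem (hB' d hd))
      have h2 : d * l * d⁻¹ * l⁻¹ ∈ L :=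
        mul_mem ((mem_normalizer_iff.1 (hL2 hd.1) l).1 hl) (inv_mem hl)
      have h3 : d * l * d⁻¹ * l⁻¹ ∈ K ⊓ L := ⟨h1, h2⟩
      rw [hKL, mem_bot] at h3
      calc d * l = (d * l * d⁻¹ * l⁻¹) * (l * d) := by group
        _ = l * d := by rw [h3, one_mul]
    have := Subgroup.card_le_of_le hle
    omega
  · -- an involution of `L`
    obtain ⟨a, ha⟩ := exists_prime_orderOf_dvd_card' (G := L) 2 (by rw [hLcard]; norm_num)
    have ha' : orderOf (a : G) = 2 := by rw [Subgroup.orderOf_coe, ha]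
    have haa : (a : G) * a = 1 := by
      have := pow_orderOf_eq_one (a : G)
      rwa [ha', pow_two] at this
    have ha1 : (a : G) ≠ 1 := by
      intro h
      rw [h, orderOf_one] at ha'
      omega
    obtain ⟨h, hh, hq1, hq2⟩ := hB' (K ⊔ L) a le_sup_left hEC hE16
      (hEC ((le_sup_right : L ≤ K ⊔ L) a.2)) (fun h => ha1 (by
        have h3 : (a : G) ∈ K ⊓ L := ⟨h, a.2⟩
        rwa [hKL, mem_bot] at h3)) haa
    set q : G := h * a * h⁻¹ with hq
    have hqq : q * q = 1 := by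
      calc q * q = h * ((a : G) * a) * h⁻¹ := by rw [hq]; group
        _ = 1 := by rw [haa]; group
    have hqC : ∀ k ∈ K, q * k = k * q := by
      intro k hk
      have e1 : h * k = k * h := ((mem_centralizer_iff.1 hh) k hk).symm
      have e2 : k * a = a * k := hcomm k hk a a.2
      have e3 : h⁻¹ * k = k * h⁻¹ := by
        calc h⁻¹ * k = h⁻¹ * (k * h) * h⁻¹ := by group
          _ = h⁻¹ * (h * k) * h⁻¹ := by rw [e1]
          _ = k * h⁻¹ := by group
      calc q * k = h * a * (h⁻¹ * k) := by rw [hq]; group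
        _ = h * (a * k) * h⁻¹ := by rw [e3]; group
        _ = (h * k) * a * h⁻¹ := by rw [← e2]; group
        _ = k * q := by rw [e1, hq]; group
    have hsN := hRT hsR
    have hp1 : s * q * s⁻¹ ∈ T₂ := (mem_normalizer_iff.1 hsN q).1 hq1
    have hp2 : s * q * s⁻¹ ∈ K ⊔ L := by
      apply hmain _ hp1
      · intro l hl
        rw [hLdef, mem_conj_iff] at hl
        have e1 := hqC _ hl
        calc s * q * s⁻¹ * l = s * (q * (s⁻¹ * l * s)) * s⁻¹ := by group
          _ = s * ((s⁻¹ * l * s) * q) * s⁻¹ := by rw [e1]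
          _ = l * (s * q * s⁻¹) := by group
      · have e1 : s * q * s⁻¹ * (s * q * s⁻¹) = s * (q * q) * s⁻¹ := by group
        rw [e1, hqq, mul_one, mul_inv_cancel]
        exact K.one_mem
    -- `E` is invariant under `s`
    have hEs : (K ⊔ L).map (MulAut.conj s).toMonoidHom = K ⊔ L := by
      rw [Subgroup.map_sup, ← hLdef, hL3, sup_comm]
    apply hq2
    rw [← hEs, mem_conj_iff] at hp2
    have e1 : s⁻¹ * (s * q * s⁻¹) * s = q := by group
    rwa [e1] at hp2

end Cfsg.Agent.M22.SixFourCore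
end
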